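import Groth.Agent.HilbFib.Basic
import Groth.Agent.W7Cech.BCLin

/-!
Hilbert functions along cartesian squares.
-/

set_option autoImplicit false
set_option backward.isDefEq.respectTransparency false
set_option backward.isDefEq.respectTransparency.types false
set_option linter.style.haveILetI false

universe u

open CategoryTheory CategoryTheory.Limits AlgebraicGeometry

noncomputable section

namespace Groth.Agent.HilbFib

/-- Betti numbers of fibres along a cartesian square. -/
theorem betti_of_isPullback {X X' Y Y' : Scheme.{u}} {f : X ⟶ Y} {g : Y' ⟶ Y} {p : X' ⟶ X} {q : X' ⟶ Y'}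
    [IsProper f] (sq₀ : IsPullback p q f g) (F : X.Modules) (hF : Coh.IsQCoh F) (y' : Y') (i : ℕ) :
    PerfAux.betti q ((Scheme.Modules.pullback p).obj F) y' i = PerfAux.betti f F (g.base y') i := by
  let k := Y.residueField (g y')
  let k' := Y'.residueField y'
  letI : Algebra k k' := (g.residueFieldMap y').hom.toAlgebra
  letI : (f.fiber (g y')).Over (Spec (CommRingCat.of ↥k)) := ⟨f.fiberToSpecResidueField (g y')⟩
  letI : (q.fiber y').Over (Spec (CommRingCat.of ↥k')) := ⟨q.fiberToSpecResidueField y'⟩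
  haveI : IsProper (f.fiberToSpecResidueField (g y')) := inferInstanceAs (IsProper (pullback.snd f _))
  haveI : CompactSpace ↥(f.fiber (g y')) :=
    QuasiCompact.compactSpace_of_compactSpace (f.fiberToSpecResidueField (g y'))
  haveI : (f.fiber (g y')).IsSeparated := by
    constructor
    rw [← terminal.comp_from (f.fiberToSpecResidueField (g y'))]
    infer_instance
  obtain ⟨ι, hι, W, hW, hcov⟩ := W7Cech.exists_cover (f.fiber (g y'))
  haveI := hι
  have sq := isPullback_fiberToSpecResidueField_of_isPullback sq₀ y'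
  let γ : q.fiber y' ⟶ f.fiber (g y') :=
    pullback.map _ _ _ _ p (Spec.map (g.residueFieldMap y')) g sq₀.w.symm (by simp)
  have hγ : γ ≫ f.fiberι (g y') = q.fiberι y' ≫ p := pullback.lift_fst _ _ _
  obtain ⟨e⟩ := W7Cech.nonempty_hh_flat_bc k k' W hW hcov γ sq (CohIII.fiberMod f F (g y'))
    (QC.isQCoh_pullback _ hF) i
  let j : (Scheme.Modules.pullback γ).obj (CohIII.fiberMod f F (g y')) ≅
      (Scheme.Modules.pullback (q.fiberι y')).obj ((Scheme.Modules.pullback p).obj F) :=
    (Scheme.Modules.pullbackComp γ (f.fiberι (g y'))).app F ≪≫ (Scheme.Modules.pullbackCongr hγ).app F ≪≫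
      ((Scheme.Modules.pullbackComp (q.fiberι y') p).app F).symm
  refine (((CohFinite.hhEquiv k' j i).symm.trans e).finrank_eq).trans ?_
  rw [Module.finrank_baseChange]
  rfl

/-- Betti numbers of fibres only depend on the isomorphism class of the module. -/
theorem betti_congr {X Y : Scheme.{u}} (f : X ⟶ Y) {F G : X.Modules} (e : F ≅ G) (y : Y) (i : ℕ) :
    PerfAux.betti f F y i = PerfAux.betti f G y i := by
  letI : (f.fiber y).Over (Spec (CommRingCat.of ↥(Y.residueField y))) := ⟨f.fiberToSpecResidueField y⟩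
  exact (CohFinite.hhEquiv (Y.residueField y) ((Scheme.Modules.pullback (f.fiberι y)).mapIso e) i).finrank_eq

/-- Hilbert functions along a cartesian square. -/
theorem hilb_of_isPullback {X X' Y Y' : Scheme.{u}} {f : X ⟶ Y} {g : Y' ⟶ Y} {p : X' ⟶ X} {q : X' ⟶ Y'}
    [IsProper f] (sq₀ : IsPullback p q f g) {L F : X.Modules} (hL : PicF.IsInvertible L) (hF : Coh.IsQCoh F)
    {L' F' : X'.Modules} (eL : (Scheme.Modules.pullback p).obj L ≅ L') (eF : (Scheme.Modules.pullback p).obj F ≅ F')
    (y' : Y') (n : ℕ) : hilb q L' F' y' n = hilb f L F (g y') n := by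
  obtain ⟨a⟩ := TMul.nonempty_pullPowIso p L n
  obtain ⟨b⟩ := TMul.nonempty_pullTensorIso p F (CohB1.tensorPow L n)
  obtain ⟨c⟩ := TMul.nonempty_powCongr eL n
  refine finsum_congr fun i => ?_
  congr 2
  rw [← betti_of_isPullback sq₀ _ (TMul.isQCoh_tensor (TMul.isInvertible_tensorPow hL n) (hF := hF)) y' i]
  exact betti_congr q ((PicGrp.tensorModIso eF c).symm ≪≫ PicGrp.tensorModIso (Iso.refl _) a ≪≫ b) y' i

end Groth.Agent.HilbFib
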