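import Groth.Agent.HilbFib.Rank
import Groth.Agent.TMul.RelAmpleOps
import Groth.Agent.S9350
import Groth.Agent.W7Hull.FlatTwistIff

/-!
Reduction of statements on Hilbert functions to an affine base.
-/

set_option autoImplicit false
set_option backward.isDefEq.respectTransparency false
set_option backward.isDefEq.respectTransparency.types false
set_option linter.style.haveILetI false

universe u

open CategoryTheory CategoryTheory.Limits AlgebraicGeometry TopologicalSpace Opposite

noncomputable section

namespace Groth.Agent.HilbFib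

variable {X S : Scheme.{u}}

theorem isFlatOverAt_comp_openImmersion {S' : Scheme.{u}} (g : X ⟶ S') (j : S' ⟶ S) [IsOpenImmersion j]
    (M : X.Modules) (x : X) (h : FlatMod.IsFlatOverAt g M x) : FlatMod.IsFlatOverAt (g ≫ j) M x := by
  let R := S.presheaf.stalk ((g ≫ j) x)
  let R' := S'.presheaf.stalk (g x)
  letI : Module R' (M.presheaf.stalk x) := FlatMod.moduleStalkOver g M x
  letI : Module R (M.presheaf.stalk x) := FlatMod.moduleStalkOver (g ≫ j) M x
  letI : Algebra R R' := (j.stalkMap (g x)).hom.toAlgebra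
  haveI : IsScalarTower R R' (M.presheaf.stalk x) := IsScalarTower.of_algebraMap_smul fun r m => by
    change (g.stalkMap x).hom ((j.stalkMap (g x)).hom r) • m = ((g ≫ j).stalkMap x).hom r • m
    rw [Scheme.Hom.stalkMap_comp]
    rfl
  haveI : Module.Flat R' (M.presheaf.stalk x) := h
  haveI : Module.Flat R R' := Module.Flat.of_linearEquiv (LinearEquiv.ofBijective (Algebra.linearMap R R')
    (ConcreteCategory.bijective_of_isIso (j.stalkMap (g x)))).symm
  exact Module.Flat.trans R R' (M.presheaf.stalk x)

variable (f : X ⟶ S) (L F : X.Modules)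

/-- Flatness from flatness over affine opens of the base. -/
theorem isFlatOver_of_affine (hF : Coh.IsQCoh F) (h : ∀ s : S, ∃ (V : S.Opens) (hV : IsAffineOpen V), s ∈ V ∧
      FlatMod.IsFlatOver (pullback.snd f hV.fromSpec)
        ((Scheme.Modules.pullback (pullback.fst f hV.fromSpec)).obj F)) :
    FlatMod.IsFlatOver f F := by
  intro x
  obtain ⟨V, hV, hxV, hfl⟩ := h (f x)
  obtain ⟨z, hz⟩ : x ∈ Set.range (pullback.fst f hV.fromSpec) := by
    rw [IsOpenImmersion.range_pullbackFst, hV.opensRange_fromSpec]
    exact hxV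
  rw [← hz]
  refine (S9350.result (pullback.fst f hV.fromSpec) f F hF z
    (RingHom.Flat.of_bijective (ConcreteCategory.bijective_of_isIso _))).2 ?_
  rw [pullback.condition]
  exact isFlatOverAt_comp_openImmersion _ _ _ _ (hfl z)

variable {f L F}

/-- Ampleness over an affine open of the base. -/
theorem isAmple_pullback_fst (hL : RelAmple.IsRelAmple f L) {V : S.Opens} (hV : IsAffineOpen V) :
    CohB1.IsAmple ((Scheme.Modules.pullback (pullback.fst f hV.fromSpec)).obj L) := by
  have hr : (pullback.fst f hV.fromSpec).opensRange = f ⁻¹ᵁ V := by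
    ext1
    rw [Scheme.Hom.coe_opensRange, IsOpenImmersion.range_pullbackFst, hV.opensRange_fromSpec]
  exact TMul.isAmple_congr ((Scheme.Modules.restrictFunctorIsoPullback _).app L)
    ((TMul.isAmple_range_iff (pullback.fst f hV.fromSpec) hr).1 (hL.2 ⟨V, hV⟩))

/-- Local constancy of Hilbert functions on a neighbourhood from local constancy. -/
theorem isLocallyConstant_of_forall (h : ∀ s : S, ∃ U : S.Opens, s ∈ U ∧ ∀ s' : S, s' ∈ U →
    ∀ n : ℕ, hilb f L F s' n = hilb f L F s n) (n : ℕ) : IsLocallyConstant fun s : S => hilb f L F s n := by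
  rw [IsLocallyConstant.iff_exists_open]
  intro s
  obtain ⟨U, hsU, hU⟩ := h s
  exact ⟨U, U.2, hsU, fun s' hs' => hU s' hs' n⟩

/-- Flatness over a reduced Noetherian affine open from local constancy of the Hilbert functions. -/
theorem isFlatOver_fromSpec [IsProper f] (hL : RelAmple.IsRelAmple f L) (hF : Coh.IsCoh F) {V : S.Opens}
    (hV : IsAffineOpen V) [IsNoetherianRing Γ(S, V)] [IsReduced Γ(S, V)]
    (hc : ∀ n, IsLocallyConstant fun z : Spec Γ(S, V) => hilb f L F (hV.fromSpec z) n) :
    FlatMod.IsFlatOver (pullback.snd f hV.fromSpec)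
      ((Scheme.Modules.pullback (pullback.fst f hV.fromSpec)).obj F) := by
  let A : Type u := Γ(S, V)
  let P := pullback f hV.fromSpec
  let q : P ⟶ Spec (CommRingCat.of A) := pullback.snd f hV.fromSpec
  let p : P ⟶ X := pullback.fst f hV.fromSpec
  letI : P.Over (Spec (CommRingCat.of A)) := ⟨q⟩
  haveI : IsProper (P ↘ Spec (CommRingCat.of A)) := inferInstanceAs (IsProper (pullback.snd f hV.fromSpec))
  haveI : IsNoetherianRing A := ‹IsNoetherianRing Γ(S, V)›
  haveI : IsReduced A := ‹IsReduced Γ(S, V)›
  have hLa : CohB1.IsAmple ((Scheme.Modules.pullback p).obj L) := isAmple_pullback_fst hL hV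
  have hinv := TMul.isInvertible_of_isRelAmple hL
  have hF' : Coh.IsCoh ((Scheme.Modules.pullback p).obj F) := QC.isCoh_pullback p hF
  obtain ⟨N, hN⟩ := exists_finLocFree A hLa hF' fun N => ⟨N, le_rfl, fun n _ => by
    have : (fun s : Spec (CommRingCat.of A) => hilb q ((Scheme.Modules.pullback p).obj L)
        ((Scheme.Modules.pullback p).obj F) s n) = fun z => hilb f L F (hV.fromSpec z) n :=
      funext fun z => hilb_baseChange hinv hF.1 hV.fromSpec z n
    exact (congrArg IsLocallyConstant this).mpr (hc n)⟩
  refine W7Hull.isFlatOver_of_push_twists q _ ((Scheme.Modules.pullback p).obj L) hF'.1 (fun y => ?_) N hN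
  exact ⟨⊤, isAffineOpen_top _, trivial, (TMul.isAmple_restrict_top_iff _).2 hLa⟩

end Groth.Agent.HilbFib
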