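import Groth.Agent.W7Cech.SnapModel
import Groth.Agent.AbsApprox.AmpleLim
import Groth.Agent.TMul.RelAmple

/-!
A Noetherian model of a proper morphism with a module of finite presentation and an ample module.
-/

set_option autoImplicit false
set_option backward.isDefEq.respectTransparency false
set_option linter.style.haveILetI false

universe u

open CategoryTheory CategoryTheory.Limits AlgebraicGeometry

noncomputable section

namespace Groth.Agent.HilbFib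

/-- A proper finitely presented scheme over `Spec A` with a finitely presented module comes from
a finitely generated subring. -/
theorem exists_proper_pair {A : Type u} [CommRing A] {X : Scheme.{u}}
    (f : X ⟶ Spec (CommRingCat.of A)) [IsProper f] [LocallyOfFinitePresentation f] (F : X.Modules)
    [Coh.IsQCoh F] (hF : CohB1.IsFP F) :
    ∃ (A₀ : Subalgebra ℤ A) (_ : A₀.FG) (_ : IsNoetherianRing ↥A₀) (X₀ : Scheme.{u})
      (f₀ : X₀ ⟶ Spec (CommRingCat.of ↥A₀)) (_ : IsProper f₀) (q : X ⟶ X₀) (F₀ : X₀.Modules),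
      IsPullback q f f₀ (Spec.map (CommRingCat.ofHom A₀.val.toRingHom)) ∧ Coh.IsCoh F₀ ∧
        Nonempty ((Scheme.Modules.pullback q).obj F₀ ≅ F) := by
  let f' : X ⟶ (LimModel.fgCone A).pt := f
  haveI : IsCofiltered (LimModel.FgSub A)ᵒᵖ := isCofiltered_op_of_isFiltered _
  let D := LimModel.fgDiagram A
  let c := LimModel.fgCone A
  let hc := LimModel.fgIsLimit A
  haveI : ∀ {i j : (LimModel.FgSub A)ᵒᵖ} (f : i ⟶ j), IsAffineHom (D.map f) := fun f =>
    inferInstanceAs (IsAffineHom ((LimModel.fgDiagram A).map f))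
  haveI : ∀ i, CompactSpace (D.obj i) := fun i => inferInstanceAs (CompactSpace ((LimModel.fgDiagram A).obj i))
  haveI : ∀ i, QuasiSeparatedSpace (D.obj i) := fun i =>
    inferInstanceAs (QuasiSeparatedSpace ((LimModel.fgDiagram A).obj i))
  haveI : ∀ i : (LimModel.FgSub A)ᵒᵖ, IsLocallyNoetherian (D.obj i) := fun i => by
    have := Algebra.FiniteType.isNoetherianRing ℤ i.unop.1
      (h := i.unop.1.fg_iff_finiteType.mp i.unop.2)
    exact inferInstanceAs (IsLocallyNoetherian (Spec (CommRingCat.of i.unop.1)))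
  haveI : IsProper f' := ‹IsProper f›
  haveI : LocallyOfFinitePresentation f' := ‹LocallyOfFinitePresentation f›
  obtain ⟨j, X₀, f₀, qX, F₀, h1, h2, h3, hq, hqc, hfp, ⟨eF⟩⟩ :=
    ConsMod.exists_model_pair_cone D c hc f' F hF
  haveI := h1; haveI := h2; haveI := h3
  haveI : LocallyOfFinitePresentation (f₀ ≫ 𝟙 (D.obj j)) := by rw [Category.comp_id]; exact h1
  haveI : QuasiCompact (f₀ ≫ 𝟙 (D.obj j)) := by rw [Category.comp_id]; exact h2
  haveI : CompactSpace X₀ := QuasiCompact.compactSpace_of_compactSpace f₀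
  have hY : IsPullback (c.π.app j) (𝟙 c.pt) (𝟙 (D.obj j)) (c.π.app j) := IsPullback.id_vert _
  let hc' := LimDesc.isPullback_comp D (𝟙 (D.obj j)) c hY f₀ hq
  haveI : ∀ k, IsIso (LimDesc.toStage D (𝟙 (D.obj j)) k) := fun k =>
    (LimDesc.isPullback_stage D (𝟙 (D.obj j)) k).isIso_snd_of_isIso
  obtain ⟨j₁, hj₁⟩ := LimMore.exists_isSeparated_of_compactSpace D c hc f₀ (𝟙 (D.obj j)) hY hq
  obtain ⟨l, e₁⟩ : ∃ l, Nonempty (l ⟶ j₁) := ⟨j₁, ⟨𝟙 _⟩⟩
  obtain ⟨e₁⟩ := e₁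
  let X₁ := LimDesc.stage D (f₀ ≫ 𝟙 (D.obj j)) l
  let f₁ : X₁ ⟶ D.obj l.left := LimDesc.toStage D (f₀ ≫ 𝟙 (D.obj j)) l
  let q₁ := LimDesc.proj D (f₀ ≫ 𝟙 (D.obj j)) c hc' l
  let F₁ := (Scheme.Modules.pullback (LimDesc.toBase D (f₀ ≫ 𝟙 (D.obj j)) l)).obj F₀
  haveI : IsSeparated f₁ := by
    haveI : IsSeparated (LimDesc.stageMap D (𝟙 (D.obj j)) f₀ l) :=
      MorphismProperty.of_isPullback (P := @IsSeparated)
        (LimDesc.isPullback_trans_stageMap D (𝟙 (D.obj j)) f₀ e₁) hj₁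
    rw [show f₁ = LimDesc.stageMap D (𝟙 (D.obj j)) f₀ l ≫ LimDesc.toStage D (𝟙 (D.obj j)) l from
      (LimDesc.stageMap_toStage D _ f₀ l).symm]
    infer_instance
  haveI : LocallyOfFinitePresentation f₁ :=
    MorphismProperty.of_isPullback (P := @LocallyOfFinitePresentation) (LimDesc.isPullback_stage D _ l) ‹_›
  haveI : QuasiCompact f₁ :=
    MorphismProperty.of_isPullback (P := @QuasiCompact) (LimDesc.isPullback_stage D _ l) ‹_›
  have hp₁ : IsPullback q₁ f' f₁ (c.π.app l.left) := by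
    have hp : IsPullback q₁ (f' ≫ 𝟙 c.pt) f₁ (c.π.app l.left) := LimDesc.isPullback_proj _ _ _ _ _
    rw [Category.comp_id f'] at hp
    exact hp
  obtain ⟨k, φ, hk⟩ := ProperModel.exists_isProper_stage D hc (i₀ := l.left) f₁ hp₁
  have hsq : IsPullback (pullback.fst f₁ (D.map φ)) (pullback.snd f₁ (D.map φ)) f₁ (D.map φ) :=
    IsPullback.of_hasPullback _ _
  let q₂ : X ⟶ pullback f₁ (D.map φ) := pullback.lift q₁ (f' ≫ c.π.app k) (by
    rw [hp₁.w, Category.assoc, c.w φ])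
  have hp₂ : IsPullback q₂ f' (pullback.snd f₁ (D.map φ)) (c.π.app k) :=
    IsPullback.of_right (by rw [pullback.lift_fst, c.w φ]; exact hp₁) (pullback.lift_snd _ _ _) hsq
  haveI : IsNoetherianRing ↥(k.unop.1 : Subalgebra ℤ A) :=
    Algebra.FiniteType.isNoetherianRing ℤ k.unop.1 (h := k.unop.1.fg_iff_finiteType.mp k.unop.2)
  refine ⟨k.unop.1, k.unop.2, inferInstance, pullback f₁ (D.map φ), pullback.snd f₁ (D.map φ), hk, q₂,
    (Scheme.Modules.pullback (pullback.fst f₁ (D.map φ))).obj F₁, hp₂,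
    QC.isCoh_pullback _ (QC.isCoh_pullback _ (⟨hqc, ModDesc.isFT_of_isFP hfp⟩ : Coh.IsCoh F₀)), ⟨?_⟩⟩
  exact (ModDesc.trIso q₂ _ (pullback.lift_fst _ _ _)).app F₁ ≪≫
    (ModDesc.trIso q₁ _ (LimDesc.proj_toBase D _ c hc' l)).app F₀ ≪≫ eF

/-- A Noetherian model with an ample module. -/
theorem exists_model_ample {A : Type u} [CommRing A] {X : Scheme.{u}}
    (f : X ⟶ Spec (CommRingCat.of A)) [IsProper f] [LocallyOfFinitePresentation f] (F : X.Modules)
    [Coh.IsQCoh F] (hF : CohB1.IsFP F) (L : X.Modules) (hL : CohB1.IsAmple L) :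
    ∃ (A₀ : Subalgebra ℤ A) (_ : IsNoetherianRing ↥A₀) (X₀ : Scheme.{u})
      (f₀ : X₀ ⟶ Spec (CommRingCat.of ↥A₀)) (_ : IsProper f₀) (q : X ⟶ X₀) (F₀ L₀ : X₀.Modules),
      IsPullback q f f₀ (Spec.map (CommRingCat.ofHom A₀.val.toRingHom)) ∧ Coh.IsCoh F₀ ∧ CohB1.IsAmple L₀ ∧
        Nonempty ((Scheme.Modules.pullback q).obj F₀ ≅ F) ∧ Nonempty ((Scheme.Modules.pullback q).obj L₀ ≅ L) := by
  obtain ⟨A₁, hA₁, hN₁, X₁, f₁, hf₁, q₁, F₁, sq₁, hF₁, ⟨i₁⟩⟩ := exists_proper_pair f F hF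
  haveI := hf₁
  haveI : IsCofiltered (LimModel.FgSub A)ᵒᵖ := isCofiltered_op_of_isFiltered _
  let D := LimModel.fgDiagram A
  let c := LimModel.fgCone A
  let hc := LimModel.fgIsLimit A
  haveI : ∀ {i j : (LimModel.FgSub A)ᵒᵖ} (f : i ⟶ j), IsAffineHom (D.map f) := fun f =>
    inferInstanceAs (IsAffineHom ((LimModel.fgDiagram A).map f))
  let k : (LimModel.FgSub A)ᵒᵖ := Opposite.op ⟨A₁, hA₁⟩
  let f₁' : X₁ ⟶ D.obj k := f₁
  haveI : IsProper f₁' := hf₁
  have hsq : IsPullback q₁ f f₁' (c.π.app k) := sq₁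
  haveI : IsNoetherianRing ↥A₁ := hN₁
  haveI : CompactSpace X₁ := QuasiCompact.compactSpace_of_compactSpace f₁
  haveI : QuasiSeparatedSpace X₁ := quasiSeparatedSpace_of_quasiSeparated f₁
  let T := LimDesc.tower D f₁'
  let cT := LimDesc.towerCone D f₁' c (g := (f : X ⟶ c.pt)) hsq
  let hcT := LimDesc.isLimitTowerCone D f₁' c (g := (f : X ⟶ c.pt)) hsq hc
  haveI : ∀ {i j : Over k} (a : i ⟶ j), IsAffineHom (T.map a) := fun a => LimDesc.isAffineHom_tower_map D f₁' a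
  let o : Over k := Over.mk (𝟙 k)
  haveI : ∀ j : Over k, CompactSpace (T.obj j) := fun j => LimDesc.compactSpace_stage D f₁' j
  haveI : ∀ j : Over k, QuasiSeparatedSpace (T.obj j) := fun j => LimDesc.quasiSeparatedSpace_stage D f₁' j
  haveI : Coh.IsQCoh (X := cT.pt) L := TMul.isQCoh_of_isInvertible hL.1
  have hfp : CohB1.IsFP L := LocFree.isFP_of_isFinLocFree fun x =>
    let ⟨U, hx, e⟩ := W7Cech.rankOne_of_isInvertible hL.1 x; ⟨U, 1, hx, e⟩
  obtain ⟨j, -, G, hG, hGfp, ⟨e⟩⟩ := ModDesc.exists_descend (D := T) (c := cT) (F := L) hcT hfp (i₀ := o)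
  haveI := hG
  have hr : FlatMod.IsFinLocFreeOfRank 1 ((Scheme.Modules.pullback (cT.π.app j)).obj G) := fun x => by
    obtain ⟨U, hx, ⟨φ⟩⟩ := W7Cech.rankOne_of_isInvertible hL.1 x
    exact ⟨U, hx, ⟨(Scheme.Modules.restrictFunctor U.ι).mapIso e ≪≫ φ⟩⟩
  obtain ⟨j', φ, hj'⟩ := ModDesc.exists_isFinLocFreeOfRank_stage T cT hcT hGfp hr
  let G' := (Scheme.Modules.pullback (T.map φ)).obj G
  have hG'inv : PicF.IsInvertible G' := ZeroSch.isInvertible_of_rankOne hj'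
  let eG : (Scheme.Modules.pullback (cT.π.app j')).obj G' ≅ L :=
    (ModDesc.trIso (cT.π.app j') (T.map φ) (cT.w φ)).app G ≪≫ e
  obtain ⟨i, ψ, hamp⟩ := AbsApprox.exists_isAmple_stage T cT hcT hG'inv (TMul.isAmple_congr eG.symm hL)
  haveI : IsNoetherianRing ↥(i.left.unop.1 : Subalgebra ℤ A) :=
    Algebra.FiniteType.isNoetherianRing ℤ i.left.unop.1 (h := i.left.unop.1.fg_iff_finiteType.mp i.left.unop.2)
  have hst : IsPullback (LimDesc.toBase D f₁' i) (LimDesc.toStage D f₁' i) f₁' (D.map i.hom) :=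
    LimDesc.isPullback_stage D f₁' i
  exact ⟨i.left.unop.1, inferInstance, T.obj i, LimDesc.toStage D f₁' i,
    MorphismProperty.of_isPullback (P := @IsProper) hst ‹_›, cT.π.app i,
    (Scheme.Modules.pullback (LimDesc.toBase D f₁' i)).obj F₁, (Scheme.Modules.pullback (T.map ψ)).obj G',
    LimDesc.isPullback_proj D f₁' c (g := (f : X ⟶ c.pt)) hsq i, QC.isCoh_pullback _ hF₁, hamp,
    ⟨(ModDesc.trIso (cT.π.app i) _ (LimDesc.proj_toBase D f₁' c hsq i)).app F₁ ≪≫ i₁⟩,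
    ⟨(ModDesc.trIso (cT.π.app i) (T.map ψ) (cT.w ψ)).app G' ≪≫ eG⟩⟩

end Groth.Agent.HilbFib
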