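import Groth.Agent.HilbFib.Affine
import Groth.Agent.HilbFib.Model
import Groth.Agent.HilbFib.Square
import Groth.Agent.S6894

/-!
Closedness of the loci of large Hilbert polynomial.
-/

set_option autoImplicit false
set_option backward.isDefEq.respectTransparency false
set_option backward.isDefEq.respectTransparency.types false
set_option linter.style.haveILetI false

universe u

open CategoryTheory CategoryTheory.Limits AlgebraicGeometry TopologicalSpace Opposite
open scoped TensorProduct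

noncomputable section

namespace Groth.Agent.HilbFib

/-- Where the fibre rank is at least a given number. -/
theorem isClosed_finrank_ge {A : Type u} [CommRing A] (M : Type u) [AddCommGroup M] [Module A M] [Module.Finite A M]
    (c : ℚ) : IsClosed {p : PrimeSpectrum A |
      c ≤ ((Module.finrank p.asIdeal.ResidueField (p.asIdeal.ResidueField ⊗[A] M) : ℤ) : ℚ)} := by
  have h : {p : PrimeSpectrum A | c ≤ ((Module.finrank p.asIdeal.ResidueField (p.asIdeal.ResidueField ⊗[A] M) : ℤ) : ℚ)} =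
      ⋂ m : ℕ, ⋂ (_ : (m : ℚ) < c), PrimeSpectrum.zeroLocus (Fitt.ideal A M m : Set A) := by
    ext p
    simp only [Set.mem_setOf_eq, Set.mem_iInter, PrimeSpectrum.mem_zeroLocus, SetLike.coe_subset_coe, Int.cast_natCast]
    constructor
    · intro hp m hm
      by_contra hno
      have := (S6894.result M m p.asIdeal).1.1 hno
      have : (Module.finrank p.asIdeal.ResidueField (p.asIdeal.ResidueField ⊗[A] M) : ℚ) ≤ m := by exact_mod_cast this
      linarith
    · intro hp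
      by_contra hno
      exact (S6894.result M _ p.asIdeal).1.2 le_rfl (hp _ (lt_of_not_ge hno))
  rw [h]
  exact isClosed_iInter fun m => isClosed_iInter fun _ => PrimeSpectrum.isClosed_zeroLocus _

/-- The locus of large Hilbert polynomial over a Noetherian affine base. -/
theorem isClosed_eventually_ge {A : Type u} [CommRing A] [IsNoetherianRing A] {X : Scheme.{u}}
    (f : X ⟶ Spec (CommRingCat.of A)) [IsProper f] {L F : X.Modules} (hL : CohB1.IsAmple L) (hF : Coh.IsCoh F)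
    (Φ : ℕ → ℚ) : IsClosed {s : Spec (CommRingCat.of A) | ∃ N : ℕ, ∀ n, N ≤ n → Φ n ≤ (hilb f L F s n : ℚ)} := by
  classical
  letI : X.Over (Spec (CommRingCat.of A)) := ⟨f⟩
  haveI : IsProper (X ↘ Spec (CommRingCat.of A)) := ‹IsProper f›
  haveI : IsLocallyNoetherian X := LocallyOfFiniteType.isLocallyNoetherian f
  have hfp : CohB1.IsFP F := haveI := hF.1; QC.isFP_of_isQCoh_of_isFT hF.2
  obtain ⟨N, hN⟩ := exists_rank A hL hF
  have hfin := finite_range_hilb (f := f) hL.1 hfp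
  haveI := hfin.to_subtype
  haveI := Fintype.ofFinite (Set.range fun s : Spec (CommRingCat.of A) => hilb f L F s)
  let Nf : (Set.range fun s : Spec (CommRingCat.of A) => hilb f L F s) → ℕ := fun v =>
    if h : ∃ M : ℕ, ∀ n, M ≤ n → Φ n ≤ (v.1 n : ℚ) then h.choose else 0
  let N' := max N (Finset.univ.sup Nf)
  have h : {s : Spec (CommRingCat.of A) | ∃ M : ℕ, ∀ n, M ≤ n → Φ n ≤ (hilb f L F s n : ℚ)} =
      ⋂ n : ℕ, ⋂ (_ : N' ≤ n), {s : Spec (CommRingCat.of A) | Φ n ≤ (hilb f L F s n : ℚ)} := by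
    ext s
    simp only [Set.mem_setOf_eq, Set.mem_iInter]
    refine ⟨fun hs n hn => ?_, fun hs => ⟨N', hs⟩⟩
    let v : Set.range fun s : Spec (CommRingCat.of A) => hilb f L F s := ⟨_, s, rfl⟩
    have hv : ∃ M : ℕ, ∀ n, M ≤ n → Φ n ≤ (v.1 n : ℚ) := hs
    refine hv.choose_spec n (le_trans ?_ hn)
    refine le_trans ?_ (le_max_right _ _)
    have h1 := Finset.le_sup (f := Nf) (Finset.mem_univ v)
    simp only [Nf, dif_pos hv] at h1
    exact h1
  rw [h]
  refine isClosed_iInter fun n => isClosed_iInter fun hn => ?_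
  obtain ⟨hfin', hrk⟩ := hN n ((le_max_left _ _).trans hn)
  haveI := hfin'
  have := isClosed_finrank_ge (A := A) ((CohIII.globalSectionsA A).obj (CohB1.tensorMod F (CohB1.tensorPow L n)) : Type u) (Φ n)
  refine cast (congrArg IsClosed (Set.ext fun s => ?_)) this
  exact Iff.of_eq (congrArg (fun x : ℤ => Φ n ≤ (x : ℚ)) (hrk s).symm)

/-- A Noetherian model over an affine open. -/
theorem exists_model_open {X S : Scheme.{u}} (f : X ⟶ S) [IsProper f] [LocallyOfFinitePresentation f]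
    {L F : X.Modules} (hL : RelAmple.IsRelAmple f L) (hF : CohB1.IsFP F) (hq : Coh.IsQCoh F) {V : S.Opens}
    (hV : IsAffineOpen V) :
    ∃ (A₀ : Type u) (_ : CommRing A₀) (_ : IsNoetherianRing A₀) (X₀ : Scheme.{u})
      (f₀ : X₀ ⟶ Spec (CommRingCat.of A₀)) (_ : IsProper f₀) (g : Spec Γ(S, V) ⟶ Spec (CommRingCat.of A₀))
      (q : pullback f hV.fromSpec ⟶ X₀) (F₀ L₀ : X₀.Modules),
      IsPullback q (pullback.snd f hV.fromSpec) f₀ g ∧ Coh.IsCoh F₀ ∧ CohB1.IsAmple L₀ ∧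
      Nonempty ((Scheme.Modules.pullback q).obj F₀ ≅ (Scheme.Modules.pullback (pullback.fst f hV.fromSpec)).obj F) ∧
      ∀ z n, hilb f L F (hV.fromSpec z) n = hilb f₀ L₀ F₀ (g z) n := by
  haveI : Coh.IsQCoh F := hq
  haveI : Coh.IsQCoh ((Scheme.Modules.pullback (pullback.fst f hV.fromSpec)).obj F) := QC.isQCoh_pullback _ hq
  obtain ⟨A₀, hA₀, X₀, f₀, hf₀, q, F₀, L₀, sq, hF₀, hL₀, ⟨eF⟩, ⟨eL⟩⟩ := exists_model_ample (A := Γ(S, V))
    (pullback.snd f hV.fromSpec) ((Scheme.Modules.pullback (pullback.fst f hV.fromSpec)).obj F)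
    (ModDesc.isFP_pullback _ hq hF) _ (isAmple_pullback_fst hL hV)
  haveI := hf₀
  refine ⟨A₀, inferInstance, hA₀, X₀, f₀, hf₀, _, q, F₀, L₀, sq, hF₀, hL₀, ⟨eF⟩, fun z n => ?_⟩
  rw [← hilb_of_isPullback sq hL₀.1 hF₀.1 eL eF z n,
    hilb_baseChange (TMul.isInvertible_of_isRelAmple hL) hq hV.fromSpec z n]

/-- The locus of large Hilbert polynomial is closed. -/
theorem isClosed_eventually_ge' {X S : Scheme.{u}} (f : X ⟶ S) [IsProper f] [LocallyOfFinitePresentation f]
    {L F : X.Modules} (hL : RelAmple.IsRelAmple f L) (hF : CohB1.IsFP F) (Φ : ℕ → ℚ) :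
    IsClosed {s : S | ∃ N : ℕ, ∀ n, N ≤ n → Φ n ≤ (hilb f L F s n : ℚ)} := by
  have hq : Coh.IsQCoh F := haveI := hF; (inferInstance : F.IsQuasicoherent)
  rw [← isOpen_compl_iff, isOpen_iff_forall_mem_open]
  intro s hs
  obtain ⟨V, hV, hsV, -⟩ := exists_isAffineOpen_mem_and_subset (X := S) (x := s) (U := ⊤) trivial
  obtain ⟨A₀, _, _, X₀, f₀, hf₀, g, q, F₀, L₀, -, hF₀, hL₀, -, hh⟩ := exists_model_open f hL hF hq hV
  haveI := hf₀
  let Z := {t : Spec (CommRingCat.of A₀) | ∃ N : ℕ, ∀ n, N ≤ n → Φ n ≤ (hilb f₀ L₀ F₀ t n : ℚ)}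
  obtain ⟨z, rfl⟩ : ∃ z, hV.fromSpec z = s := ⟨_, hV.fromSpec_primeIdealOf ⟨s, hsV⟩⟩
  refine ⟨hV.fromSpec '' (g ⁻¹' Zᶜ), ?_, hV.fromSpec.isOpenEmbedding.isOpenMap _
    ((isClosed_eventually_ge f₀ hL₀ hF₀ Φ).isOpen_compl.preimage g.continuous), ⟨z, ?_, rfl⟩⟩
  · rintro _ ⟨z', hz', rfl⟩ ⟨N, hN⟩
    exact hz' ⟨N, fun n hn => by rw [← hh]; exact hN n hn⟩
  · rintro ⟨N, hN⟩
    exact hs ⟨N, fun n hn => by rw [hh]; exact hN n hn⟩

end Groth.Agent.HilbFib
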