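import Groth.Agent.HilbFib.StratumMain
import Groth.Agent.HilbFib.Closed
import Groth.Agent.W7Strat.Glue

/-!
The stratum of a Hilbert function as a subscheme.
-/

set_option autoImplicit false
set_option backward.isDefEq.respectTransparency false
set_option backward.isDefEq.respectTransparency.types false
set_option linter.style.haveILetI false
set_option maxHeartbeats 1600000

universe u

open CategoryTheory CategoryTheory.Limits AlgebraicGeometry TopologicalSpace Opposite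

noncomputable section

namespace Groth.Agent.HilbFib

/-- Flat pullback through a cartesian square. -/
theorem pflat_iff_of_square {X S T P S' : Scheme.{u}} {f : X ⟶ S} {F : X.Modules} {g : S' ⟶ S} {p : P ⟶ X}
    {q : P ⟶ S'} (sq : IsPullback p q f g) {F' : P.Modules} (e : (Scheme.Modules.pullback p).obj F ≅ F')
    (u : T ⟶ S') : PFlat f F (u ≫ g) ↔ PFlat q F' u := by
  have sq' : IsPullback (pullback.fst q u ≫ p) (pullback.snd q u) f (u ≫ g) :=
    (IsPullback.of_hasPullback q u).paste_horiz sq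
  let i : (Scheme.Modules.pullback (pullback.fst q u ≫ p)).obj F ≅ (Scheme.Modules.pullback (pullback.fst q u)).obj F' :=
    ((Scheme.Modules.pullbackComp (pullback.fst q u) p).app F).symm ≪≫ (Scheme.Modules.pullback (pullback.fst q u)).mapIso e
  constructor
  · intro h
    have h0 : FlatMod.IsFlatOver (pullback.snd q u) ((Scheme.Modules.pullback (pullback.fst q u ≫ p)).obj F) :=
      flat_of_pflat (g := u ≫ g) (w := 𝟙 T) (by rw [Category.id_comp]; exact sq') h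
    exact fun x => FlatLimMod.isFlatOverAt_of_iso _ i (h0 x)
  · intro h
    exact pflat_of_square sq' fun x => FlatLimMod.isFlatOverAt_of_iso _ i.symm (h x)

variable {X S : Scheme.{u}} (f : X ⟶ S) (L F : X.Modules) (Φ : ℕ → ℚ)

/-- The moduli condition of the stratum. -/
def StratP {T : Scheme.{u}} (g : T ⟶ S) : Prop :=
  PFlat f F g ∧ ∀ t, ∀ n, (hilb f L F (g t) n : ℚ) = Φ n

variable [IsProper f] [LocallyOfFinitePresentation f] {L F}

theorem exists_chart (hL : RelAmple.IsRelAmple f L) (hF : CohB1.IsFP F) {V : S.Opens} (hV : IsAffineOpen V) :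
    ∃ (W : Scheme.{u}) (i : W ⟶ Spec Γ(S, V)), IsImmersion i ∧ LocallyOfFinitePresentation i ∧ QuasiCompact i ∧
      Set.range i = {z | ∀ n, (hilb f L F (hV.fromSpec z) n : ℚ) = Φ n} ∧
      ∀ (T : Scheme.{u}) (v : T ⟶ Spec Γ(S, V)), (∃ h : T ⟶ W, h ≫ i = v) ↔ StratP f L F Φ (v ≫ hV.fromSpec) := by
  have hq : Coh.IsQCoh F := haveI := hF; (inferInstance : F.IsQuasicoherent)
  obtain ⟨A₀, _, _, X₀, f₀, hf₀, g, q, F₀, L₀, sq, hF₀, hL₀, ⟨eF⟩, hh⟩ := exists_model_open f hL hF hq hV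
  haveI := hf₀
  obtain ⟨W₀, i₀, _, _, _, hr, huniv⟩ := exists_stratum_noetherian f₀ hL₀ hF₀ Φ
  refine ⟨pullback i₀ g, pullback.snd i₀ g, inferInstance, inferInstance, inferInstance, ?_, fun T v => ?_⟩
  · rw [Scheme.Pullback.range_snd, hr]
    ext z
    simp only [Set.mem_preimage, Set.mem_setOf_eq]
    exact forall_congr' fun n => by rw [hh]
  have h1 : (∃ h : T ⟶ pullback i₀ g, h ≫ pullback.snd i₀ g = v) ↔ ∃ h : T ⟶ W₀, h ≫ i₀ = v ≫ g := by
    constructor
    · rintro ⟨h, rfl⟩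
      exact ⟨h ≫ pullback.fst i₀ g, by rw [Category.assoc, pullback.condition, Category.assoc]⟩
    · rintro ⟨h, hh'⟩
      exact ⟨pullback.lift h v hh', pullback.lift_snd _ _ _⟩
  have h2 : PFlat f₀ F₀ (v ≫ g) ↔ PFlat f F (v ≫ hV.fromSpec) :=
    (pflat_iff_of_square sq eF v).trans
      (pflat_iff_of_square (IsPullback.of_hasPullback f hV.fromSpec) (Iso.refl _) v).symm
  rw [h1, huniv, StratP, h2]
  refine and_congr_right' (forall_congr' fun t => forall_congr' fun n => ?_)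
  rw [Scheme.Hom.comp_apply, Scheme.Hom.comp_apply, hh]

/-- The stratum of a Hilbert function. -/
theorem exists_stratum (hL : RelAmple.IsRelAmple f L) (hF : CohB1.IsFP F) :
    ∃ (W : Scheme.{u}) (i : W ⟶ S), IsImmersion i ∧ QuasiCompact i ∧ LocallyOfFinitePresentation i ∧
      Set.range i = {s : S | ∀ n, (hilb f L F s n : ℚ) = Φ n} ∧
      ∀ (T : Scheme.{u}) (g : T ⟶ S), (∃ h : T ⟶ W, h ≫ i = g) ↔ StratP f L F Φ g := by
  classical
  have hq : Coh.IsQCoh F := haveI := hF; (inferInstance : F.IsQuasicoherent)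
  let SΦ : Set S := {s | ∀ n, (hilb f L F s n : ℚ) = Φ n}
  have hVset : ∀ {V : S.Opens} (hV : IsAffineOpen V), IsLocallyClosed ((V : Set S) ∩ SΦ) ∧
      IsCompact ((V : Set S) ∩ SΦ) := by
    intro V hV
    obtain ⟨W, i, _, _, _, hr, -⟩ := exists_chart f Φ hL hF hV
    have he : (V : Set S) ∩ SΦ = hV.fromSpec '' Set.range i := by
      ext s
      constructor
      · rintro ⟨hs, hs'⟩
        obtain ⟨z, rfl⟩ : ∃ z, hV.fromSpec z = s := ⟨_, hV.fromSpec_primeIdealOf ⟨s, hs⟩⟩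
        exact ⟨z, hr.ge hs', rfl⟩
      · rintro ⟨z, hz, rfl⟩
        exact ⟨hV.range_fromSpec.le ⟨z, rfl⟩, hr.le hz⟩
    rw [he]
    refine ⟨(i.isLocallyClosed_range).image hV.fromSpec.isOpenEmbedding.isInducing
      hV.fromSpec.isOpenEmbedding.isOpen_range.isLocallyClosed, ?_⟩
    haveI : CompactSpace W := QuasiCompact.compactSpace_of_compactSpace i
    exact ((isCompact_range i.continuous).image hV.fromSpec.continuous)
  have hlc : IsLocallyClosed SΦ := by
    refine ((isLocallyClosed_tfae SΦ).out 3 0).1 fun s hs => ?_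
    obtain ⟨V, hV, hsV, -⟩ := exists_isAffineOpen_mem_and_subset (X := S) (x := s) (U := ⊤) trivial
    have h4 : ∀ x ∈ (V : Set S) ∩ SΦ, ∃ U, x ∈ U ∧ IsOpen U ∧ U ∩ closure ((V : Set S) ∩ SΦ) ⊆ (V : Set S) ∩ SΦ :=
      ((isLocallyClosed_tfae ((V : Set S) ∩ SΦ)).out 0 3).1 (hVset hV).1
    obtain ⟨U₁, hsU, hU₁, hsub⟩ := h4 s ⟨hsV, hs⟩
    refine ⟨U₁ ∩ V, ⟨hsU, hsV⟩, hU₁.inter V.2, ?_⟩
    rintro y ⟨⟨hyU, hyV⟩, hy⟩
    exact (hsub ⟨hyU, V.2.inter_closure ⟨hyV, hy⟩⟩).2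
  let U₀ : S.Opens := ⟨coborder SΦ, hlc.isOpen_coborder⟩
  let J := {V : S.affineOpens // V.1 ≤ U₀}
  choose W i hi₁ hi₂ hi₃ hr huniv using fun j : J => exists_chart f Φ hL hF j.1.2
  let c : ∀ j : J, W j ⟶ (j.1.1).toScheme := fun j => i j ≫ j.1.2.isoSpec.inv
  have hcι : ∀ j, c j ≫ (j.1.1).ι = i j ≫ j.1.2.fromSpec := fun j => by
    rw [Category.assoc, IsAffineOpen.isoSpec_inv_ι]
  haveI : ∀ j, IsClosedImmersion (c j) := fun j => by
    haveI := hi₁ j
    refine IsClosedImmersion.of_isPreimmersion _ ?_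
    have he : Set.range (c j) = (j.1.1).ι ⁻¹' SΦ := by
      ext z
      constructor
      · rintro ⟨w, rfl⟩
        change (j.1.1).ι (c j w) ∈ SΦ
        rw [← Scheme.Hom.comp_apply, hcι, Scheme.Hom.comp_apply]
        exact (hr j).le ⟨w, rfl⟩
      · intro hz
        obtain ⟨w, hw⟩ : j.1.2.isoSpec.hom z ∈ Set.range (i j) := (hr j).ge (by
          change j.1.2.fromSpec (j.1.2.isoSpec.hom z) ∈ SΦ
          rw [← Scheme.Hom.comp_apply, IsAffineOpen.isoSpec_hom_fromSpec]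
          exact hz)
        refine ⟨w, ?_⟩
        rw [Scheme.Hom.comp_apply, hw, ← Scheme.Hom.comp_apply, Iso.hom_inv_id]
        rfl
    rw [he]
    have hcl : (j.1.1).ι ⁻¹' SΦ = (j.1.1).ι ⁻¹' closure SΦ := by
      ext z
      refine ⟨fun hz => subset_closure hz, fun hz => ?_⟩
      exact (coborder_inter_closure (s := SΦ)).le ⟨j.2 z.2, hz⟩
    rw [hcl]
    exact isClosed_closure.preimage (j.1.1).ι.continuous
  have hc : ∀ (j : J) (T : Scheme.{u}) (v : T ⟶ (j.1.1).toScheme),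
      (∃ w, w ≫ c j = v) ↔ StratP f L F Φ (v ≫ (j.1.1).ι) := by
    intro j T v
    rw [show v ≫ (j.1.1).ι = (v ≫ j.1.2.isoSpec.hom) ≫ j.1.2.fromSpec by
      rw [Category.assoc, IsAffineOpen.isoSpec_hom_fromSpec], ← huniv j]
    constructor
    · rintro ⟨w, rfl⟩
      exact ⟨w, by simp [c]⟩
    · rintro ⟨w, hw⟩
      exact ⟨w, by rw [← Category.assoc, hw, Category.assoc, Iso.hom_inv_id, Category.comp_id]⟩
  obtain ⟨Z₀, c₀, hc₀, huniv₀, hlfp⟩ := W7Strat.exists_glue (fun {T} g => StratP f L F Φ g)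
    (fun {T T'} {u} w h => ⟨h.1.comp w, fun t => by rw [Scheme.Hom.comp_apply]; exact h.2 (w t)⟩)
    (fun {T} {u} h => ⟨pflat_of_local hq fun t => by
        obtain ⟨U, htU, hU⟩ := h t
        exact ⟨U.toScheme, U.ι, inferInstance, ⟨⟨t, htU⟩, rfl⟩, hU.1⟩, fun t => by
        obtain ⟨U, htU, hU⟩ := h t
        have := hU.2 ⟨t, htU⟩
        simp only [Scheme.Hom.comp_apply] at this
        exact this⟩)
    U₀ (fun {T} u h t => subset_coborder (h.2 t)) (fun j : J => j.1.1) (fun j => j.2) (fun s hs => by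
      obtain ⟨V, hV, hsV, hle⟩ := exists_isAffineOpen_mem_and_subset (X := S) (x := s) (U := U₀) hs
      exact ⟨⟨⟨V, hV⟩, hle⟩, hsV⟩) W c hc
  haveI := hc₀
  haveI : LocallyOfFinitePresentation c₀ := hlfp fun j => by
    haveI := hi₂ j
    infer_instance
  have hP : StratP f L F Φ (c₀ ≫ U₀.ι) := (huniv₀ _ _).1 ⟨𝟙 _, Category.id_comp _⟩
  have hrange : Set.range (c₀ ≫ U₀.ι) = SΦ := by
    refine Set.Subset.antisymm (fun s ⟨z, hz⟩ => hz ▸ hP.2 z) fun s hs => ?_
    obtain ⟨V, hV, hsV, hle⟩ := exists_isAffineOpen_mem_and_subset (X := S) (x := s) (U := U₀) (subset_coborder hs)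
    let j : J := ⟨⟨V, hV⟩, hle⟩
    obtain ⟨w, hw⟩ : hV.primeIdealOf ⟨s, hsV⟩ ∈ Set.range (i j) := (hr j).ge (by
      change hV.fromSpec _ ∈ SΦ
      rw [hV.fromSpec_primeIdealOf]
      exact hs)
    obtain ⟨h, hh⟩ := (huniv₀ _ (i j ≫ hV.fromSpec)).2 ((huniv j _ _).1 ⟨𝟙 _, Category.id_comp _⟩)
    refine ⟨h w, ?_⟩
    rw [← Scheme.Hom.comp_apply, hh, Scheme.Hom.comp_apply, hw, hV.fromSpec_primeIdealOf]
  refine ⟨Z₀, c₀ ≫ U₀.ι, inferInstance, ?_, inferInstance, hrange, fun T g => huniv₀ T g⟩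
  rw [quasiCompact_iff_forall_isAffineOpen]
  intro V hV
  rw [(c₀ ≫ U₀.ι).isEmbedding.isInducing.isCompact_iff]
  have : (c₀ ≫ U₀.ι) '' ((c₀ ≫ U₀.ι) ⁻¹' (V : Set S)) = (V : Set S) ∩ SΦ := by
    rw [Set.image_preimage_eq_inter_range, hrange]
  exact this ▸ (hVset hV).2

end Groth.Agent.HilbFib
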