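import Groth.Agent.W7Cech.Snap
import Groth.Agent.FlatModBC.Sections
import Groth.Agent.LocFree.Props
import Groth.Agent.S4508
import Groth.Agent.TMul.Pullback
import Groth.Prelude.Def_Curv2
import Groth.Prelude.Def_PerfAux

/-!
Hilbert functions of the fibres of a module, and flat strata.
-/

set_option autoImplicit false
set_option backward.isDefEq.respectTransparency false
set_option backward.isDefEq.respectTransparency.types false
set_option linter.style.haveILetI false
set_option maxHeartbeats 1000000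

universe u

open CategoryTheory CategoryTheory.Limits AlgebraicGeometry TopologicalSpace Opposite
open scoped TensorProduct

noncomputable section

namespace Groth.Agent.HilbFib

variable {X S : Scheme.{u}} (f : X ⟶ S) (L F : X.Modules)

/-- The Hilbert function of the fibre at a point. -/
def hilb (s : S) (n : ℕ) : ℤ :=
  PerfAux.eulerChar f (CohB1.tensorMod F (CohB1.tensorPow L n)) s

theorem hilb_eq_euler (s : S) (n : ℕ) :
    hilb f L F s n = @Curv2.euler (S.residueField s) _ (f.fiber s) ⟨f.fiberToSpecResidueField s⟩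
      ((Scheme.Modules.pullback (f.fiberι s)).obj (CohB1.tensorMod F (CohB1.tensorPow L n))) := rfl

variable {f L F}

theorem hilb_baseChange [IsProper f] (hL : PicF.IsInvertible L) (hF : Coh.IsQCoh F) {T : Scheme.{u}} (g : T ⟶ S)
    (t : T) (n : ℕ) :
    hilb (pullback.snd f g) ((Scheme.Modules.pullback (pullback.fst f g)).obj L)
        ((Scheme.Modules.pullback (pullback.fst f g)).obj F) t n = hilb f L F (g t) n := by
  obtain ⟨a⟩ := TMul.nonempty_pullPowIso (pullback.fst f g) L n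
  obtain ⟨b⟩ := TMul.nonempty_pullTensorIso (pullback.fst f g) F (CohB1.tensorPow L n)
  refine finsum_congr fun i => ?_
  congr 2
  rw [← S4508.betti_baseChange f g _ (TMul.isQCoh_tensor (TMul.isInvertible_tensorPow hL n) (hF := hF)) t i]
  letI : ((pullback.snd f g).fiber t).Over (Spec (CommRingCat.of (T.residueField t))) :=
    ⟨(pullback.snd f g).fiberToSpecResidueField t⟩
  exact (CohFinite.hhEquiv (T.residueField t) ((Scheme.Modules.pullback ((pullback.snd f g).fiberι t)).mapIso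
    (PicGrp.tensorModIso (Iso.refl _) a ≪≫ b)) i).finrank_eq

theorem isLocallyConstant_hilb [IsProper f] [LocallyOfFinitePresentation f] (hL : PicF.IsInvertible L)
    (hF : CohB1.IsFP F) (hfl : FlatMod.IsFlatOver f F) :
    IsLocallyConstant fun s : S => hilb f L F s := by
  rw [IsLocallyConstant.iff_exists_open]
  intro s
  obtain ⟨U, hsU, hU⟩ := W7Cech.exists_nhd_euler_eq f F hF hfl (fun _ : Fin 1 => L) (fun _ => hL) s
  exact ⟨U, U.2, hsU, fun s' hs' => funext fun n => hU s' hs' fun _ => n⟩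

variable (f F)

/-- The stratum of `V(J) ∩ D(h)` in an affine open. -/
abbrev StratRing {A : Type u} [CommRing A] (J : Ideal A) (h : A) : Type u :=
  Localization.Away (Ideal.Quotient.mk J h)

/-- The morphism of a stratum to the base. -/
def stratι {V : S.Opens} (hV : IsAffineOpen V) (J : Ideal Γ(S, V)) (h : Γ(S, V)) :
    Spec (CommRingCat.of (StratRing J h)) ⟶ S :=
  Spec.map (CommRingCat.ofHom ((algebraMap (Γ(S, V) ⧸ J) (StratRing J h)).comp (Ideal.Quotient.mk J))) ≫
    hV.fromSpec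

theorem stratι_le {V : S.Opens} (hV : IsAffineOpen V) {C : CommRingCat.{u}} (q : Γ(S, V) ⟶ C) :
    (⊤ : (Spec C).Opens) ≤ (Spec.map q ≫ hV.fromSpec) ⁻¹ᵁ V := fun z _ => by
  show hV.fromSpec (Spec.map q z) ∈ (V : Set S)
  rw [← hV.range_fromSpec]
  exact ⟨_, rfl⟩

theorem stratι_appLE {V : S.Opens} (hV : IsAffineOpen V) {C : CommRingCat.{u}} (q : Γ(S, V) ⟶ C) :
    (Spec.map q ≫ hV.fromSpec).appLE V ⊤ (stratι_le hV q) = q ≫ (Scheme.ΓSpecIso C).inv := by
  simp only [Scheme.Hom.comp_appLE, hV.fromSpec_app_self, Category.assoc, Scheme.Hom.map_appLE]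
  rw [Scheme.Hom.appLE, Scheme.ΓSpecIso_inv_naturality]
  simp

/-- Flatness over a stratum from freeness on charts. -/
theorem isFlatOver_of_freeOn (hq : Coh.IsQCoh F) {V : S.Opens} (hV : IsAffineOpen V) {ι : Type} (U : ι → X.Opens)
    (hU : ∀ k, IsAffineOpen (U k)) (eU : ∀ k, U k ≤ f ⁻¹ᵁ V) (hcov : ∀ x, f x ∈ V → ∃ k, x ∈ U k)
    {C : CommRingCat.{u}} (q : Γ(S, V) ⟶ C) (J : Ideal Γ(S, V)) (h : Γ(S, V)) (hJ : J.map q.hom = ⊥)
    (hh : IsUnit (q h))
    (hfree : ∀ k, letI : Module Γ(S, V) Γ(F, U k) := Module.compHom Γ(F, U k) (f.appLE V (U k) (eU k)).hom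
      FlatModBC.FreeOn Γ(F, U k) J h) :
    FlatMod.IsFlatOver (pullback.snd f (Spec.map q ≫ hV.fromSpec))
      ((Scheme.Modules.pullback (pullback.fst f (Spec.map q ≫ hV.fromSpec))).obj F) := by
  refine (FlatModBC.isFlatOver_iff_forall_flat (IsPullback.of_hasPullback f _) F hV
    (Set.range fun k => (⟨U k, hU k⟩ : X.affineOpens)) ?_ ?_ (stratι_le hV q)).2 ?_
  · rintro _ ⟨k, rfl⟩
    exact eU k
  · intro x hx
    obtain ⟨k, hk⟩ := hcov x hx
    exact ⟨_, ⟨k, rfl⟩, hk⟩
  have h1 : J.map ((Spec.map q ≫ hV.fromSpec).appLE V ⊤ (stratι_le hV q)).hom = ⊥ := by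
    rw [stratι_appLE, CommRingCat.hom_comp, ← Ideal.map_map, hJ, Ideal.map_bot]
  have h2 : IsUnit (((Spec.map q ≫ hV.fromSpec).appLE V ⊤ (stratι_le hV q)).hom h) := by
    rw [stratι_appLE, CommRingCat.hom_comp]
    exact hh.map (Scheme.ΓSpecIso C).inv.hom
  rintro ⟨_, k, rfl⟩
  letI : Algebra Γ(S, V) Γ(Spec C, ⊤) := ((Spec.map q ≫ hV.fromSpec).appLE V ⊤ (stratι_le hV q)).hom.toAlgebra
  letI : Module Γ(S, V) Γ(F, U k) := Module.compHom Γ(F, U k) (f.appLE V (U k) (eU k)).hom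
  haveI := hfree k Γ(Spec C, ⊤) h1 h2
  exact Module.Flat.of_free

/-- Flat strata over an affine open of the base, with their universal property. -/
theorem exists_strata_ring [QuasiCompact f] [QuasiSeparated f] [LocallyOfFinitePresentation f]
    (hF : CohB1.IsFP F) {V : S.Opens} (hV : IsAffineOpen V) :
    ∃ (m : ℕ) (J : Fin m → Ideal Γ(S, V)) (h : Fin m → Γ(S, V)), (∀ i, (J i).FG) ∧
      (∀ i (C : CommRingCat.{u}) (q : Γ(S, V) ⟶ C), (J i).map q.hom = ⊥ → IsUnit (q (h i)) →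
        FlatMod.IsFlatOver (pullback.snd f (Spec.map q ≫ hV.fromSpec))
          ((Scheme.Modules.pullback (pullback.fst f (Spec.map q ≫ hV.fromSpec))).obj F)) ∧
      ∀ p : PrimeSpectrum Γ(S, V), ∃ i, J i ≤ p.asIdeal ∧ h i ∉ p.asIdeal := by
  classical
  have hq : Coh.IsQCoh F := haveI := hF; (inferInstance : F.IsQuasicoherent)
  have hc : IsCompact (f ⁻¹ᵁ V : Set X) := f.isCompact_preimage hV.isCompact
  choose W hW hxW hle using fun x : (f ⁻¹ᵁ V : Set X) =>
    exists_isAffineOpen_mem_and_subset (X := X) (x := x.1) (U := f ⁻¹ᵁ V) x.2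
  obtain ⟨t, ht⟩ := hc.elim_finite_subcover (fun x => (W x : Set X)) (fun x => (W x).2)
    fun x hx => Set.mem_iUnion.2 ⟨⟨x, hx⟩, hxW ⟨x, hx⟩⟩
  let e : Fin t.card ≃ t := t.equivFin.symm
  let U : Fin t.card → X.Opens := fun k => W (e k).1
  have eU : ∀ k, U k ≤ f ⁻¹ᵁ V := fun k => hle (e k).1
  letI : ∀ k, Algebra Γ(S, V) Γ(X, U k) := fun k => (f.appLE V (U k) (eU k)).hom.toAlgebra
  haveI : ∀ k, Algebra.FinitePresentation Γ(S, V) Γ(X, U k) := fun k =>
    f.finitePresentation_appLE hV (hW _) (eU k)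
  letI : ∀ k, Module Γ(S, V) Γ(F, U k) := fun k => Module.compHom Γ(F, U k) (f.appLE V (U k) (eU k)).hom
  haveI : ∀ k, IsScalarTower Γ(S, V) Γ(X, U k) Γ(F, U k) := fun k =>
    IsScalarTower.of_algebraMap_smul fun _ _ => rfl
  haveI : ∀ k, Module.FinitePresentation Γ(X, U k) Γ(F, U k) := fun k =>
    LocFree.finitePresentation_sections_of_isFP hq hF (hW _)
  obtain ⟨l, J, hl, -, hfg, hrad, hJ, hfree⟩ :=
    FlatModBC.exists_strat (A := Γ(S, V)) (fun k => Γ(X, U k)) (fun k => Γ(F, U k))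
  refine ⟨l.length, fun i => J i, fun i => l[i], fun i => hfg i, fun i C q hq1 hq2 => ?_, fun p => ?_⟩
  · refine isFlatOver_of_freeOn f F hq hV U (fun k => hW _) eU (fun x hx => ?_) q (J i) l[i]
      hq1 hq2 (hfree i i.2)
    obtain ⟨y, hy, hxy⟩ := Set.mem_iUnion₂.1 (ht (show x ∈ (f ⁻¹ᵁ V : Set X) from hx))
    exact ⟨t.equivFin ⟨y, hy⟩, by simpa [U, e] using hxy⟩
  · have hex : ∃ i, ∃ hi : i < l.length, l[i] ∉ p.asIdeal := by
      by_contra hno
      push_neg at hno
      refine p.isPrime.ne_top (eq_top_iff.2 (hl.ge.trans (Ideal.span_le.2 fun a ha => ?_)))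
      obtain ⟨i, hi, rfl⟩ := List.getElem_of_mem ha
      exact hno i hi
    obtain ⟨i₀, ⟨hi, hpi⟩, hmin⟩ : ∃ i₀, (∃ hi : i₀ < l.length, l[i₀] ∉ p.asIdeal) ∧
        ∀ j < i₀, ¬ ∃ hj : j < l.length, l[j] ∉ p.asIdeal :=
      ⟨_, Nat.find_spec hex, fun _ => Nat.find_min hex⟩
    clear hex
    have hJp : J (i₀) ≤ p.asIdeal := by
      refine (hrad _).trans ((Ideal.IsPrime.radical_le_iff p.isPrime).2 (Ideal.span_le.2 fun a ha => ?_))
      obtain ⟨j, hj, rfl⟩ := List.getElem_of_mem (show a ∈ l.take (i₀) from ha)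
      have hjn : j < i₀ := (List.length_take ▸ hj : j < min _ _).trans_le (min_le_left _ _)
      rw [List.getElem_take]
      by_contra hnot
      exact hmin _ hjn ⟨hjn.trans hi, hnot⟩
    exact ⟨⟨i₀, hi⟩, hJp, hpi⟩

/-- Flat strata over an affine open of the base. -/
theorem exists_strata_affine [QuasiCompact f] [QuasiSeparated f] [LocallyOfFinitePresentation f]
    (hF : CohB1.IsFP F) {V : S.Opens} (hV : IsAffineOpen V) :
    ∃ (m : ℕ) (J : Fin m → Ideal Γ(S, V)) (h : Fin m → Γ(S, V)), (∀ i, (J i).FG) ∧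
      (∀ i, FlatMod.IsFlatOver (pullback.snd f (stratι hV (J i) (h i)))
        ((Scheme.Modules.pullback (pullback.fst f (stratι hV (J i) (h i)))).obj F)) ∧
      ∀ s : S, s ∈ V → ∃ i, s ∈ Set.range (stratι hV (J i) (h i)) := by
  obtain ⟨m, J, h, hfg, hfl, hcov⟩ := exists_strata_ring f F hF hV
  refine ⟨m, J, h, hfg, fun i => hfl i _ (CommRingCat.ofHom ((algebraMap (Γ(S, V) ⧸ J i) (StratRing (J i) (h i))).comp
    (Ideal.Quotient.mk (J i)))) ?_ (IsLocalization.Away.algebraMap_isUnit (Ideal.Quotient.mk (J i) (h i))), fun s hs => ?_⟩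
  · rw [CommRingCat.hom_ofHom, ← Ideal.map_map, Ideal.map_quotient_self, Ideal.map_bot]
  · obtain ⟨p, hp⟩ : ∃ p, hV.fromSpec p = s := ⟨_, hV.fromSpec_primeIdealOf ⟨s, hs⟩⟩
    obtain ⟨i, hJp, hpi⟩ := hcov p
    refine ⟨i, ?_⟩
    obtain ⟨p₁, hp₁⟩ : ∃ p₁, PrimeSpectrum.comap (Ideal.Quotient.mk (J i)) p₁ = p := by
      rw [← Set.mem_range, range_comap_of_surjective _ _ Ideal.Quotient.mk_surjective, Ideal.mk_ker]
      exact hJp
    obtain ⟨p₂, hp₂⟩ : p₁ ∈ Set.range (PrimeSpectrum.comap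
        (algebraMap (Γ(S, V) ⧸ J i) (StratRing (J i) (h i)))) := by
      rw [PrimeSpectrum.localization_away_comap_range _ (Ideal.Quotient.mk (J i) (h i)),
        SetLike.mem_coe, PrimeSpectrum.mem_basicOpen]
      intro hmem
      rw [← hp₁] at hpi
      exact hpi hmem
    refine ⟨p₂, ?_⟩
    show hV.fromSpec _ = s
    rw [← hp]
    congr 1
    rw [← hp₁, ← hp₂]
    rfl

variable {f F}

theorem finite_range_hilb [CompactSpace S] [IsProper f] [LocallyOfFinitePresentation f] (hL : PicF.IsInvertible L)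
    (hF : CohB1.IsFP F) : (Set.range fun s : S => hilb f L F s).Finite := by
  classical
  have hq : Coh.IsQCoh F := haveI := hF; (inferInstance : F.IsQuasicoherent)
  choose V hV hsV using fun s : S => exists_isAffineOpen_mem_and_subset (X := S) (x := s) (U := ⊤) trivial
  obtain ⟨t, ht⟩ := isCompact_univ.elim_finite_subcover (fun s => (V s : Set S)) (fun s => (V s).2)
    fun s _ => Set.mem_iUnion.2 ⟨s, (hsV s).1⟩
  choose m J h hfg hfl hcov using fun s : S => exists_strata_affine f F hF (hV s)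
  have hU : (⋃ a ∈ (t : Set S), ⋃ i : Fin (m a), Set.range fun z : ↑(Spec (CommRingCat.of (StratRing (J a i) (h a i)))) =>
      hilb f L F (stratι (hV a) (J a i) (h a i) z)).Finite := by
    refine t.finite_toSet.biUnion fun a _ => Set.finite_iUnion fun i : Fin (m a) => ?_
    let g := stratι (hV a) (J a i) (h a i)
    have hlc := isLocallyConstant_hilb (f := pullback.snd f g)
      (PicLoc.isInvertible_pullback (pullback.fst f g) hL)
      (ModDesc.isFP_pullback (pullback.fst f g) hq hF) (hfl a i)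
    refine (hlc.range_finite).subset ?_
    rintro _ ⟨z, rfl⟩
    exact ⟨z, funext fun n => hilb_baseChange hL hq g z n⟩
  refine hU.subset ?_
  · rintro _ ⟨s, rfl⟩
    obtain ⟨a, ha, hsa⟩ := Set.mem_iUnion₂.1 (ht (Set.mem_univ s))
    obtain ⟨i, z, hz⟩ := hcov a s hsa
    exact Set.mem_biUnion ha (Set.mem_iUnion.2 ⟨i, z, by rw [← hz]⟩)

end Groth.Agent.HilbFib
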