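import Groth.Agent.HilbFib.StratumGlue
import Groth.Agent.PicBdd.Hilb
import Groth.Agent.PicFam.Pn
import Groth.Agent.PBundle.Local
import Groth.Agent.HQProj.Basic
import Groth.Agent.ProjMor.VAmpleApply
import Groth.Prelude.Def_FGA
import Groth.Prelude.Def_Twist2

/-!
Hilbert polynomials of coherent modules on the fibres of projective space over a noetherian base, and the flattening stratification.
-/

set_option autoImplicit false
set_option backward.isDefEq.respectTransparency false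
set_option backward.isDefEq.respectTransparency.types false
set_option linter.style.haveILetI false
set_option maxHeartbeats 1000000

universe u

open CategoryTheory CategoryTheory.Limits AlgebraicGeometry TopologicalSpace Opposite

noncomputable section

namespace Groth.Agent.HilbFib

theorem eulerCharLE_congr (k : Type u) [Field k] {X : Scheme.{u}} [X.Over (Spec (CommRingCat.of k))]
    {A B : X.Modules} (e : A ≅ B) (d : ℕ) : FGA.eulerCharLE k X A d = FGA.eulerCharLE k X B d :=
  Finset.sum_congr rfl fun i _ => by rw [(CohFinite.hhEquiv k e i).finrank_eq]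

variable (n : ℕ) (S : Scheme.{u})

/-- `O(1)` is ample relative to projective space. -/
theorem isRelAmple_twistOver :
    RelAmple.IsRelAmple (CohB1.ProjSpaceOver.toBase n S) (Twist.twistOver n S 1) := by
  haveI := HQProj.isProper_toBase n S
  refine ⟨inferInstance, fun V => ?_⟩
  let f := CohB1.ProjSpaceOver.toBase n S
  let t := CohB1.ProjSpace.toSpec n (ULift.{u} ℤ)
  haveI : IsAffine (V.1 : Scheme.{u}) := V.2
  let i : (f ⁻¹ᵁ V.1).toScheme ⟶ CohB1.ProjSpaceOver n V.1.toScheme :=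
    pullback.lift ((f ⁻¹ᵁ V.1).ι ≫ pullback.fst t _) (f ∣_ V.1) (specULiftZIsTerminal.hom_ext _ _)
  let m : CohB1.ProjSpaceOver n V.1.toScheme ⟶ CohB1.ProjSpaceOver n S :=
    pullback.lift (pullback.fst t _) (pullback.snd t _ ≫ V.1.ι) (specULiftZIsTerminal.hom_ext _ _)
  have h1 : i ≫ m = (f ⁻¹ᵁ V.1).ι := by
    refine pullback.hom_ext ?_ ?_
    · rw [Category.assoc, pullback.lift_fst, pullback.lift_fst]
    · rw [Category.assoc, pullback.lift_snd, ← Category.assoc]
      erw [pullback.lift_snd]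
      exact morphismRestrict_ι f V.1
  haveI : IsImmersion (i ≫ m) := by rw [h1]; infer_instance
  haveI : IsImmersion i := IsImmersion.of_comp i m
  haveI : CompactSpace (f ⁻¹ᵁ V.1).toScheme :=
    isCompact_iff_compactSpace.mp (f.isCompact_preimage V.2.isCompact)
  refine TMul.isAmple_congr ?_ (TMul.isAmple_pullback i i.isEmbedding.isInducing (ProjMor.isAmple_twistOver n _))
  exact (Scheme.Modules.pullbackComp i (pullback.fst t _)).app _ ≪≫
    (Scheme.Modules.pullbackCongr (show i ≫ pullback.fst t _ = (f ⁻¹ᵁ V.1).ι ≫ pullback.fst t _ from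
      pullback.lift_fst _ _ _)).app _ ≪≫
    ((Scheme.Modules.pullbackComp (f ⁻¹ᵁ V.1).ι (pullback.fst t _)).app _).symm ≪≫
    ((Scheme.Modules.restrictFunctorIsoPullback (f ⁻¹ᵁ V.1).ι).app _).symm

variable {n S}

/-- Hilbert polynomial of a fibre. -/
theorem exists_fibre_poly [IsLocallyNoetherian S] (F : (CohB1.ProjSpaceOver n S).Modules) (hF : Coh.IsCoh F)
    (s : (Over.mk (𝟙 S)).left) :
    ∃ P : Polynomial ℚ,
      (∀ m : ℤ, (FGA.eulerCharLE ((Over.mk (𝟙 S)).left.residueField s)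
        (FGA.fibreAt (CohB1.ProjSpaceOver.toBase n S) (Over.mk (𝟙 S)) s).left
        (CohB1.tensorMod
          (FGA.restrFibre (CohB1.ProjSpaceOver.toBase n S) (Over.mk (𝟙 S)) s
            (FGA.ET (CohB1.ProjSpaceOver.toBase n S) F (Over.mk (𝟙 S))))
          (FGA.restrFibre (CohB1.ProjSpaceOver.toBase n S) (Over.mk (𝟙 S)) s
            (FGA.ET (CohB1.ProjSpaceOver.toBase n S) (Twist.twistOver n S m) (Over.mk (𝟙 S))))) n : ℚ) =
              P.eval (m : ℚ)) ∧
      ∀ k : ℕ, (hilb (CohB1.ProjSpaceOver.toBase n S) (Twist.twistOver n S 1) F s k : ℚ) = P.eval (k : ℚ) := by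
  let f := CohB1.ProjSpaceOver.toBase n S
  haveI : IsProper f := HQProj.isProper_toBase n S
  let f' : pullback f (𝟙 S) ⟶ S := pullback.snd f (𝟙 S)
  let p : pullback f (𝟙 S) ⟶ CohB1.ProjSpaceOver n S := pullback.fst f (𝟙 S)
  let κ := S.residueField s
  let X := f'.fiber s
  letI : X.Over (Spec (CommRingCat.of κ)) := ⟨f'.fiberToSpecResidueField s⟩
  haveI : IsProper f' := MorphismProperty.pullback_snd _ _ inferInstance
  haveI : IsProper (X ↘ Spec (CommRingCat.of κ)) :=
    inferInstanceAs (IsProper (pullback.snd f' (S.fromSpecResidueField s)))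
  have sq : IsPullback (f'.fiberι s ≫ p) (f'.fiberToSpecResidueField s) f (S.fromSpecResidueField s) := by
    have h := (IsPullback.of_hasPullback f' (S.fromSpecResidueField s)).paste_horiz
      (IsPullback.of_hasPullback f (𝟙 S))
    rw [Category.comp_id] at h
    exact h
  let c : X ≅ f.fiber s := sq.isoPullback
  obtain ⟨ε, hε, htw⟩ := PicFam.exists_fiber_iso n S s
  let i : X ⟶ CohB1.ProjSpace n κ := c.hom ≫ ε.inv
  have hi : i ≫ CohB1.ProjSpace.toSpec n κ = X ↘ Spec (CommRingCat.of κ) := by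
    rw [Category.assoc, ← hε, Iso.inv_hom_id_assoc]
    exact sq.isoPullback_hom_snd
  let R : (CohB1.ProjSpaceOver n S).Modules → X.Modules := fun M =>
    (Scheme.Modules.pullback (f'.fiberι s)).obj ((Scheme.Modules.pullback p).obj M)
  have hRc : Coh.IsCoh (R F) := QC.isCoh_pullback _ (QC.isCoh_pullback _ hF)
  have hM : ∀ d : ℤ, Nonempty ((Scheme.Modules.pullback i).obj (Twist.twistProjSpace n κ d) ≅
      R (Twist.twistOver n S d)) := fun d => by
    obtain ⟨t⟩ := htw d
    refine ⟨((Scheme.Modules.pullbackComp c.hom ε.inv).app _).symm ≪≫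
      (Scheme.Modules.pullback c.hom).mapIso ((Scheme.Modules.pullback ε.inv).mapIso t.symm ≪≫
        (Scheme.Modules.pullbackComp ε.inv ε.hom).app _ ≪≫ (Scheme.Modules.pullbackCongr ε.inv_hom_id).app _ ≪≫
        (Scheme.Modules.pullbackId _).app _) ≪≫
      (Scheme.Modules.pullbackComp c.hom (f.fiberι s)).app _ ≪≫
      (Scheme.Modules.pullbackCongr (sq.isoPullback_hom_fst)).app _ ≪≫
      ((Scheme.Modules.pullbackComp (f'.fiberι s) p).app _).symm⟩
  obtain ⟨P, hP⟩ := PicBdd.exists_hilbert_poly κ i hRc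
  refine ⟨P, fun m => ?_, fun k => ?_⟩
  · obtain ⟨e⟩ := hM m
    rw [← hP m, ← PicBdd.eulerCharLE_twistOn κ i hi hRc m]
    exact congrArg _ (eulerCharLE_congr κ (PicGrp.tensorModIso (Iso.refl (R F)) e.symm) n)
  · have hb := hilb_baseChange (f := f) (PicFam.isInvertible_twistOver n S 1) hF.1 (𝟙 S) s k
    rw [show (𝟙 S : S ⟶ S) s = s from rfl] at hb
    rw [← hb, hilb_eq_euler, ← Int.cast_natCast, ← hP (k : ℤ)]
    obtain ⟨e⟩ := hM k
    obtain ⟨w⟩ := W7Hull.nonempty_twistOver_pow n S k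
    obtain ⟨a⟩ := TMul.nonempty_pullPowIso p (Twist.twistOver n S 1) k
    obtain ⟨b⟩ := TMul.nonempty_pullTensorIso (f'.fiberι s) ((Scheme.Modules.pullback p).obj F)
      (CohB1.tensorPow ((Scheme.Modules.pullback p).obj (Twist.twistOver n S 1)) k)
    refine congrArg _ (CurveRR.euler_eq_of_iso (k := κ) ?_)
    exact b.symm ≪≫ PicGrp.tensorModIso (Iso.refl (R F))
      ((Scheme.Modules.pullback (f'.fiberι s)).mapIso (a ≪≫ (Scheme.Modules.pullback p).mapIso w.symm) ≪≫ e.symm)

/-- The flattening stratification of a coherent module on projective space over a noetherian base. -/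
theorem exists_projStrat [IsNoetherian S] (F : (CohB1.ProjSpaceOver n S).Modules) (hF : Coh.IsCoh F) :
    ∃ (I : Finset (Polynomial ℚ)) (St : ↥I → Scheme.{u}) (e : ∀ P : ↥I, St P ⟶ S), (∀ P, IsImmersion (e P)) ∧
      (∀ (P : ↥I) (s : S), s ∈ Set.range (e P) ↔ ∀ k : ℕ,
        (hilb (CohB1.ProjSpaceOver.toBase n S) (Twist.twistOver n S 1) F s k : ℚ) =
          (P : Polynomial ℚ).eval (k : ℚ)) ∧
      (∀ s : S, ∃ P : ↥I, s ∈ Set.range (e P)) ∧
      Pairwise (fun P Q : ↥I => Disjoint (Set.range (e P)) (Set.range (e Q))) ∧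
      ∀ (T : Scheme.{u}) (φ : T ⟶ S),
        FlatMod.IsFlatOver (CohB1.ProjSpaceOver.toBase n T) ((Scheme.Modules.pullback (FGA.projMap n φ)).obj F) ↔
          ∃ g : T ⟶ ∐ St, g ≫ Limits.Sigma.desc e = φ := by
  classical
  let f := CohB1.ProjSpaceOver.toBase n S
  let L := Twist.twistOver n S 1
  haveI : IsProper f := HQProj.isProper_toBase n S
  haveI : LocallyOfFinitePresentation f := (PicFam.flat_lfp_toBase n S).2
  haveI : IsLocallyNoetherian (CohB1.ProjSpaceOver n S) := LocallyOfFiniteType.isLocallyNoetherian f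
  have hfp : CohB1.IsFP F := haveI := hF.1; QC.isFP_of_isQCoh_of_isFT hF.2
  have hL : PicF.IsInvertible L := PicFam.isInvertible_twistOver n S 1
  have hLa : RelAmple.IsRelAmple f L := isRelAmple_twistOver n S
  choose P hPm hP using fun s : S => exists_fibre_poly F hF s
  have hPext : ∀ {s : S} {Q : Polynomial ℚ}, (∀ k : ℕ, (hilb f L F s k : ℚ) = Q.eval (k : ℚ)) → P s = Q := by
    intro s Q h
    refine Polynomial.eq_of_infinite_eval_eq _ _ (Set.infinite_of_injective_forall_mem
      (f := fun a : ℕ => (a : ℚ)) Nat.cast_injective fun k => ?_)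
    show (P s).eval _ = Q.eval _
    rw [← hP, ← h]
  have hfinR := finite_range_hilb (f := f) hL hfp
  have hfin : (Set.range P).Finite := by
    let sel : (ℕ → ℤ) → Polynomial ℚ := fun h =>
      if hh : ∃ Q : Polynomial ℚ, ∀ k : ℕ, (h k : ℚ) = Q.eval (k : ℚ) then hh.choose else 0
    refine (hfinR.image sel).subset ?_
    rintro _ ⟨s, rfl⟩
    refine ⟨_, ⟨s, rfl⟩, ?_⟩
    have hh : ∃ Q : Polynomial ℚ, ∀ k : ℕ, (hilb f L F s k : ℚ) = Q.eval (k : ℚ) := ⟨P s, hP s⟩
    simp only [sel, dif_pos hh]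
    exact (hPext hh.choose_spec).symm
  let I := hfin.toFinset
  choose St e himm _ _ hr huniv using fun Q : ↥I => exists_stratum f (fun k => (Q : Polynomial ℚ).eval (k : ℚ)) hLa hfp
  have hmem : ∀ (Q : ↥I) (s : S), s ∈ Set.range (e Q) ↔ ∀ k : ℕ, (hilb f L F s k : ℚ) = (Q : Polynomial ℚ).eval (k : ℚ) :=
    fun Q s => by rw [hr Q]; rfl
  have huniq : ∀ (Q R : ↥I) (s : S), s ∈ Set.range (e Q) → s ∈ Set.range (e R) → Q = R := fun Q R s h h' =>
    Subtype.ext ((hPext ((hmem Q s).1 h)).symm.trans (hPext ((hmem R s).1 h')))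
  refine ⟨I, St, e, himm, hmem, fun s => ⟨⟨P s, hfin.mem_toFinset.2 ⟨s, rfl⟩⟩, (hmem _ s).2 (hP s)⟩,
    fun Q R hne => Set.disjoint_left.2 fun s h h' => hne (huniq Q R s h h'), fun T φ => ?_⟩
  let q := CohB1.ProjSpaceOver.toBase n T
  have hsq : IsPullback (FGA.projMap n φ) q f φ := by
    refine IsPullback.of_right (h₁₂ := pullback.fst (CohB1.ProjSpace.toSpec n (ULift.{u} ℤ))
      (specULiftZIsTerminal.from S)) (h₂₂ := specULiftZIsTerminal.from S)
      (v₁₃ := CohB1.ProjSpace.toSpec n (ULift.{u} ℤ)) ?_ ?_ (IsPullback.of_hasPullback _ _)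
    · rw [show FGA.projMap n φ ≫ pullback.fst _ _ = pullback.fst _ _ from
        (pullback.lift_fst _ _ _).trans (Category.comp_id _),
        show φ ≫ specULiftZIsTerminal.from S = specULiftZIsTerminal.from T from specULiftZIsTerminal.hom_ext _ _]
      exact IsPullback.of_hasPullback _ _
    · exact pullback.lift_snd _ _ _
  have hiff : FlatMod.IsFlatOver q ((Scheme.Modules.pullback (FGA.projMap n φ)).obj F) ↔ PFlat f F φ :=
    ⟨fun h => pflat_of_square hsq h, fun h => flat_of_pflat (w := 𝟙 T) (by rw [Category.id_comp]; exact hsq) h⟩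
  rw [hiff]
  constructor
  · intro h
    have hlc : IsLocallyConstant fun t : T => hilb f L F (φ t) := by
      have h1 := isLocallyConstant_hilb (f := pullback.snd f φ)
        (PicLoc.isInvertible_pullback (pullback.fst f φ) hL) (ModDesc.isFP_pullback (pullback.fst f φ) hF.1 hfp) h
      rwa [show (fun t : T => hilb (pullback.snd f φ) ((Scheme.Modules.pullback (pullback.fst f φ)).obj L)
        ((Scheme.Modules.pullback (pullback.fst f φ)).obj F) t) = fun t : T => hilb f L F (φ t) from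
          funext fun t => funext fun k => hilb_baseChange hL hF.1 φ t k] at h1
    let U : ↥I → T.Opens := fun Q => ⟨(fun t : T => hilb f L F (φ t)) ⁻¹'
      {h | ∀ k : ℕ, (h k : ℚ) = (Q : Polynomial ℚ).eval (k : ℚ)}, hlc _⟩
    have hU : ∀ Q, ∃ g : (U Q).toScheme ⟶ St Q, g ≫ e Q = (U Q).ι ≫ φ := fun Q =>
      (huniv Q _ _).2 ⟨h.comp _, fun t k => by rw [Scheme.Hom.comp_apply]; exact t.2 k⟩
    choose g hg using hU
    have hcov : TopologicalSpace.IsOpenCover U := TopologicalSpace.IsOpenCover.mk (eq_top_iff.2 fun t _ =>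
      Opens.mem_iSup.2 ⟨⟨P (φ t), hfin.mem_toFinset.2 ⟨φ t, rfl⟩⟩, fun k => hP (φ t) k⟩)
    let 𝒰 : T.OpenCover := Scheme.openCoverOfIsOpenCover T U hcov
    have hcompat : ∀ i j : 𝒰.I₀, pullback.fst (𝒰.f i) (𝒰.f j) ≫ (g i ≫ Sigma.ι St i) =
        pullback.snd (𝒰.f i) (𝒰.f j) ≫ (g j ≫ Sigma.ι St j) := by
      intro i j
      by_cases hij : i = j
      · subst hij
        rw [show pullback.fst (𝒰.f i) (𝒰.f i) = pullback.snd (𝒰.f i) (𝒰.f i) from
          fst_eq_snd_of_mono_eq (𝒰.f i)]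
      · haveI : IsEmpty ↥(pullback (𝒰.f i) (𝒰.f j)) := ⟨fun z => hij (by
          have hw : (U i).ι (pullback.fst (U i).ι (U j).ι z) = (U j).ι (pullback.snd (U i).ι (U j).ι z) := by
            rw [← Scheme.Hom.comp_apply, ← Scheme.Hom.comp_apply, pullback.condition]
          refine huniq i j (φ ((U i).ι (pullback.fst (U i).ι (U j).ι z)))
            ((hmem i _).2 (pullback.fst (U i).ι (U j).ι z).2) ((hmem j _).2 ?_)
          rw [hw]
          exact (pullback.snd (U i).ι (U j).ι z).2)⟩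
        exact isInitialOfIsEmpty.hom_ext _ _
    refine ⟨𝒰.glueMorphisms (fun i => g i ≫ Sigma.ι St i) hcompat, 𝒰.hom_ext _ _ fun i => ?_⟩
    rw [Scheme.Cover.ι_glueMorphisms_assoc, Category.assoc, Sigma.ι_desc]
    exact hg i
  · rintro ⟨g, rfl⟩
    refine pflat_of_local hF.1 fun t => ?_
    obtain ⟨Q, y, hy⟩ := (sigmaOpenCover St).exists_eq (g t)
    let W : T.Opens := g ⁻¹ᵁ (Sigma.ι St Q).opensRange
    let w : W.toScheme ⟶ St Q := IsOpenImmersion.lift (Sigma.ι St Q) (W.ι ≫ g) (by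
      rintro _ ⟨z, rfl⟩
      exact z.2)
    refine ⟨W.toScheme, W.ι, inferInstance, ⟨⟨t, ⟨y, hy⟩⟩, rfl⟩, ?_⟩
    have h1 : W.ι ≫ g ≫ Sigma.desc e = w ≫ e Q := by
      rw [← Category.assoc, ← IsOpenImmersion.lift_fac (Sigma.ι St Q) (W.ι ≫ g) (by
        rintro _ ⟨z, rfl⟩
        exact z.2), Category.assoc, Sigma.ι_desc]
    rw [h1]
    exact ((huniv Q _ _).1 ⟨w, rfl⟩).1

end Groth.Agent.HilbFib
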