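import Groth.Agent.HilbFib.Lin
import Groth.Prelude.Def_ega3
import Mathlib.Algebra.Homology.ConcreteCategory

/-!
Degree zero and exactness of `C ⊗ M` for a cochain complex.
-/

set_option autoImplicit false
set_option backward.isDefEq.respectTransparency false
set_option backward.isDefEq.respectTransparency.types false
set_option linter.style.haveILetI false

universe u

open CategoryTheory CategoryTheory.Limits TensorProduct LinearMap

noncomputable section

namespace Groth.Agent.HilbFib

variable {A : Type u} [CommRing A] (C : CochainComplex (ModuleCat.{u} A) ℕ)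

/-- The differential. -/
abbrev dd (p : ℕ) : (C.X p : Type u) →ₗ[A] (C.X (p + 1) : Type u) := (C.d p (p + 1)).hom

lemma dd_dd (p : ℕ) (x : C.X p) : dd C (p + 1) (dd C p x) = 0 :=
  congr(($(C.d_comp_d p (p + 1) (p + 1 + 1))).hom x)

/-- `H^0(C ⊗ M) → C^0 ⊗ M`. -/
def zeroMap (M : ModuleCat.{u} A) : (CohIII.T C 0 M : Type u) →ₗ[A] (C.X 0 : Type u) ⊗[A] (M : Type u) :=
  ((CochainComplex.isoHomologyπ₀ (CohIII.tensorObj C M)).inv ≫ (CohIII.tensorObj C M).iCycles 0).hom

lemma zeroMap_injective (M : ModuleCat.{u} A) : Function.Injective (zeroMap C M) :=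
  (ModuleCat.mono_iff_injective _).1 (inferInstance : Mono
    ((CochainComplex.isoHomologyπ₀ (CohIII.tensorObj C M)).inv ≫ (CohIII.tensorObj C M).iCycles 0))

lemma tensorObj_d (M : ModuleCat.{u} A) (p : ℕ) :
    ((CohIII.tensorObj C M).d p (p + 1)).hom = (dd C p).rTensor (M : Type u) := rfl

lemma rTensor_zeroMap (M : ModuleCat.{u} A) (x : CohIII.T C 0 M) :
    (dd C 0).rTensor (M : Type u) (zeroMap C M x) = 0 := by
  rw [← tensorObj_d]
  have h := congr(($((CohIII.tensorObj C M).iCycles_d 0 (0 + 1))).hom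
    ((CochainComplex.isoHomologyπ₀ (CohIII.tensorObj C M)).inv.hom x))
  exact h

lemma zeroMap_range (M : ModuleCat.{u} A) (z : (C.X 0 : Type u) ⊗[A] (M : Type u))
    (hz : (dd C 0).rTensor (M : Type u) z = 0) : ∃ x, zeroMap C M x = z := by
  let D := CohIII.tensorObj C M
  let y : D.cycles 0 := D.cyclesMk (i := 0) (show (forget₂ (ModuleCat.{u} A) Ab).obj (D.X 0) from z) 1 (by simp) hz
  refine ⟨(CochainComplex.isoHomologyπ₀ D).hom.hom y, ?_⟩
  change (((CochainComplex.isoHomologyπ₀ D).hom ≫ (CochainComplex.isoHomologyπ₀ D).inv) ≫ D.iCycles 0).hom y = z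
  rw [Iso.hom_inv_id, Category.id_comp]
  exact D.i_cyclesMk (i := 0) (show (forget₂ (ModuleCat.{u} A) Ab).obj (D.X 0) from z) 1 (by simp) hz

lemma zeroMap_natural {M N : ModuleCat.{u} A} (g : M ⟶ N) (x : CohIII.T C 0 M) :
    zeroMap C N (((CohIII.TFun C 0).map g).hom x) = g.hom.lTensor (C.X 0 : Type u) (zeroMap C M x) := by
  have h1 := CochainComplex.isoHomologyπ₀_inv_naturality (CohIII.tensorMap C g)
  have h2 := HomologicalComplex.cyclesMap_i (CohIII.tensorMap C g) 0
  have h : (CohIII.TFun C 0).map g ≫ (CochainComplex.isoHomologyπ₀ (CohIII.tensorObj C N)).inv ≫ (CohIII.tensorObj C N).iCycles 0 =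
      ((CochainComplex.isoHomologyπ₀ (CohIII.tensorObj C M)).inv ≫ (CohIII.tensorObj C M).iCycles 0) ≫ (CohIII.tensorMap C g).f 0 := by
    show HomologicalComplex.homologyMap (CohIII.tensorMap C g) 0 ≫ _ = _
    rw [← Category.assoc, h1, Category.assoc, h2, Category.assoc]
  exact congr($(h).hom x)

lemma rTensor_comm {P Q : Type u} [AddCommGroup P] [Module A P] [AddCommGroup Q] [Module A Q] (g : P →ₗ[A] Q)
    (M : Type u) [AddCommGroup M] [Module A M] (z : M ⊗[A] P) :
    g.rTensor M (TensorProduct.comm A M P z) = TensorProduct.comm A M Q (g.lTensor M z) := by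
  induction z using TensorProduct.induction_on with
  | zero => simp
  | tmul m p => simp
  | add a b ha hb => simp only [map_add, ha, hb]

/-- Right exactness of `H^0(C ⊗ -)` at a free presentation. -/
theorem good_of_presentation {M₁ M : ModuleCat.{u} A} [Module.Flat A (M₁ : Type u)] (g : M₁ ⟶ ModuleCat.of A A)
    (π : ModuleCat.of A A ⟶ M) (hgπ : Function.Exact g.hom π.hom) (hπ : Function.Surjective π.hom)
    (hs : Function.Surjective ((CohIII.TFun C 0).map π).hom)
    (he : ∀ x, ((CohIII.TFun C 0).map π).hom x = 0 → ∃ y, ((CohIII.TFun C 0).map g).hom y = x) :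
    Good (ker (dd C 0)).subtype (dd C 0) (M : Type u) := by
  let K := ker (dd C 0)
  let ι := K.subtype
  have hι : Function.Exact ι (dd C 0) := LinearMap.exact_subtype_ker_map _
  have cι := fun (N : Type u) [AddCommGroup N] [Module A N] (z : N ⊗[A] K) => rTensor_comm ι N z
  have lift : ∀ (N : ModuleCat.{u} A) [Module.Flat A (N : Type u)] (x : CohIII.T C 0 N),
      ∃ u : (N : Type u) ⊗[A] K, TensorProduct.comm A (N : Type u) _ (ι.lTensor (N : Type u) u) = zeroMap C N x := by
    intro N _ x
    have h0 : (dd C 0).lTensor (N : Type u) ((TensorProduct.comm A (N : Type u) _).symm (zeroMap C N x)) = 0 := by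
      apply (TensorProduct.comm A (N : Type u) _).injective
      rw [← rTensor_comm, LinearEquiv.apply_symm_apply, rTensor_zeroMap, map_zero]
    obtain ⟨u, hu⟩ := (Module.Flat.lTensor_exact (N : Type u) hι _).1 h0
    exact ⟨u, by rw [hu, LinearEquiv.apply_symm_apply]⟩
  have nat : ∀ {P Q R : Type u} [AddCommGroup P] [Module A P] [AddCommGroup Q] [Module A Q] [AddCommGroup R]
      [Module A R] (φ : P →ₗ[A] Q) (z : P ⊗[A] R), φ.lTensor R (TensorProduct.comm A P R z) =
        TensorProduct.comm A Q R (φ.rTensor R z) := by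
    intro P Q R _ _ _ _ _ _ φ z
    induction z using TensorProduct.induction_on with
    | zero => simp
    | tmul m p => simp
    | add a b ha hb => simp only [map_add, ha, hb]
  refine ⟨?_, fun z => ⟨fun hz => ?_, ?_⟩⟩
  · rw [← LinearMap.ker_eq_bot, eq_bot_iff]
    intro z hz
    obtain ⟨w, rfl⟩ := LinearMap.rTensor_surjective K hπ z
    have hz' : (dd C 0).rTensor A (TensorProduct.comm A A _ (ι.lTensor A w)) = 0 := by
      rw [rTensor_comm, ← LinearMap.comp_apply, ← lTensor_comp, hι.linearMap_comp_eq_zero]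
      simp
    obtain ⟨v, hv⟩ := zeroMap_range C (ModuleCat.of A A) _ hz'
    have hπv : zeroMap C M (((CohIII.TFun C 0).map π).hom v) = 0 := by
      rw [zeroMap_natural, hv, nat π.hom (ι.lTensor A w), ← LinearMap.comp_apply (rTensor _ _),
        rTensor_comp_lTensor, ← lTensor_comp_rTensor, LinearMap.comp_apply,
        LinearMap.mem_ker.1 hz, map_zero]
    obtain ⟨y, rfl⟩ := he v (zeroMap_injective C M (hπv.trans (map_zero _).symm))
    obtain ⟨u, hu⟩ := lift M₁ y
    have hw : g.hom.rTensor K u = w := by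
      refine Module.Flat.lTensor_preserves_injective_linearMap (M := A) ι K.injective_subtype ?_
      apply (TensorProduct.comm A A _).injective
      rw [← hv, zeroMap_natural, ← hu, nat g.hom, ← LinearMap.comp_apply (lTensor _ _), lTensor_comp_rTensor,
        ← rTensor_comp_lTensor, LinearMap.comp_apply]
    rw [Submodule.mem_bot, ← hw, ← LinearMap.comp_apply, ← rTensor_comp, hgπ.linearMap_comp_eq_zero]
    simp
  · obtain ⟨v, hv⟩ := zeroMap_range C M (TensorProduct.comm A (M : Type u) _ z) (by rw [rTensor_comm, hz, map_zero])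
    obtain ⟨x, rfl⟩ := hs v
    obtain ⟨u, hu⟩ := lift (ModuleCat.of A A) x
    refine ⟨π.hom.rTensor K u, (TensorProduct.comm A (M : Type u) _).injective ?_⟩
    rw [← hv, zeroMap_natural, ← hu, nat π.hom, ← LinearMap.comp_apply (lTensor _ _), lTensor_comp_rTensor,
      ← rTensor_comp_lTensor, LinearMap.comp_apply]
  · rintro ⟨u, rfl⟩
    rw [← LinearMap.comp_apply, ← lTensor_comp, hι.linearMap_comp_eq_zero]
    simp

/-- Exactness of `C ⊗ M` from vanishing of its cohomology. -/
theorem exact_lTensor_of_subsingleton (p : ℕ) (M : ModuleCat.{u} A) [Subsingleton (CohIII.T C (p + 1) M)] :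
    Function.Exact ((dd C p).lTensor (M : Type u)) ((dd C (p + 1)).lTensor (M : Type u)) := by
  let D := CohIII.tensorObj C M
  have hD : D.ExactAt (p + 1) := (D.exactAt_iff_isZero_homology _).2 (ModuleCat.isZero_of_subsingleton _)
  rw [HomologicalComplex.exactAt_iff' D p (p + 1) (p + 1 + 1) (by simp) (by simp),
    ShortComplex.moduleCat_exact_iff_range_eq_ker] at hD
  have hex : Function.Exact ((dd C p).rTensor (M : Type u)) ((dd C (p + 1)).rTensor (M : Type u)) :=
    LinearMap.exact_iff.2 hD.symm
  intro z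
  rw [← map_eq_zero_iff _ (TensorProduct.comm A (M : Type u) _).injective, ← rTensor_comm, hex]
  constructor
  · rintro ⟨w, hw⟩
    obtain ⟨w, rfl⟩ := (TensorProduct.comm A (M : Type u) _).surjective w
    exact ⟨w, (TensorProduct.comm A (M : Type u) _).injective ((rTensor_comm _ _ w).symm.trans hw)⟩
  · rintro ⟨w, rfl⟩
    exact ⟨TensorProduct.comm A (M : Type u) _ w, rTensor_comm _ _ w⟩

/-- The kernel in degree zero is the cohomology. -/
theorem nonempty_T_equiv_ker : Nonempty ((CohIII.T C 0 (ModuleCat.of A A) : Type u) ≃ₗ[A] ker (dd C 0)) := by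
  let r := TensorProduct.rid A (C.X 0 : Type u)
  have hr : ∀ z, dd C 0 (r z) = TensorProduct.rid A _ ((dd C 0).rTensor A z) := fun z => by
    induction z using TensorProduct.induction_on with
    | zero => simp
    | tmul m a => simp [r]
    | add a b ha hb => simp only [map_add, ha, hb]
  let φ : (CohIII.T C 0 (ModuleCat.of A A) : Type u) →ₗ[A] ker (dd C 0) :=
    (r.toLinearMap ∘ₗ zeroMap C (ModuleCat.of A A)).codRestrict _ fun x => by
      change dd C 0 (r _) = 0
      rw [hr]
      exact (congrArg _ (rTensor_zeroMap C (ModuleCat.of A A) x)).trans (map_zero _)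
  refine ⟨LinearEquiv.ofBijective φ ⟨fun x y hxy => ?_, fun z => ?_⟩⟩
  · exact zeroMap_injective C _ (r.injective (congrArg Subtype.val hxy))
  · obtain ⟨x, hx⟩ := zeroMap_range C (ModuleCat.of A A) (r.symm z.1) (by
      apply (TensorProduct.rid A _).injective
      rw [← hr, LinearEquiv.apply_symm_apply, map_zero]
      exact z.2)
    exact ⟨x, Subtype.ext (by change r (zeroMap C _ x) = z.1; rw [hx, LinearEquiv.apply_symm_apply])⟩

end Groth.Agent.HilbFib
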