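import Groth.Agent.HilbFib.Cech

/-!
Goodness and exactness over a stratum.
-/

set_option autoImplicit false
set_option backward.isDefEq.respectTransparency false
set_option backward.isDefEq.respectTransparency.types false
set_option linter.style.haveILetI false

universe u

open CategoryTheory TensorProduct LinearMap

noncomputable section

namespace Groth.Agent.HilbFib

section

variable {A : Type u} [CommRing A]

/-- Flat modules keep a kernel. -/
theorem good_of_flat {C₀ C₁ : Type u} [AddCommGroup C₀] [Module A C₀] [AddCommGroup C₁] [Module A C₁]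
    (d : C₀ →ₗ[A] C₁) (N : Type u) [AddCommGroup N] [Module A N] [Module.Flat A N] :
    Good (ker d).subtype d N :=
  ⟨Module.Flat.lTensor_preserves_injective_linearMap _ (ker d).injective_subtype,
    Module.Flat.lTensor_exact N (LinearMap.exact_subtype_ker_map d)⟩

/-- Exactness of a base change, tensored with a module over the new ring. -/
theorem exact_lTensor_baseChange_iff {B : Type u} [CommRing B] [Algebra A B] {P Q R : Type u} [AddCommGroup P]
    [Module A P] [AddCommGroup Q] [Module A Q] [AddCommGroup R] [Module A R] (g : P →ₗ[A] Q) (g' : Q →ₗ[A] R)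
    (N : Type u) [AddCommGroup N] [Module A N] [Module B N] [IsScalarTower A B N] :
    Function.Exact ((g.baseChange B).lTensor N) ((g'.baseChange B).lTensor N) ↔
      Function.Exact (g.lTensor N) (g'.lTensor N) := by
  let e : ∀ (M : Type u) [AddCommGroup M] [Module A M], N ⊗[B] (B ⊗[A] M) ≃ₗ[A] N ⊗[A] M := fun M _ _ =>
    (AlgebraTensorModule.cancelBaseChange A B B N M).restrictScalars A
  have c : ∀ {M M' : Type u} [AddCommGroup M] [Module A M] [AddCommGroup M'] [Module A M'] (h : M →ₗ[A] M')
      (z : N ⊗[B] (B ⊗[A] M)), h.lTensor N (e M z) = e M' ((h.baseChange B).lTensor N z) := by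
    intro M M' _ _ _ _ h z
    induction z using TensorProduct.induction_on with
    | zero => simp
    | tmul n w =>
      induction w using TensorProduct.induction_on with
      | zero => simp
      | tmul b q => simp [e]
      | add a b ha hb => simp only [TensorProduct.tmul_add, map_add, ha, hb]
    | add a b ha hb => simp only [map_add, ha, hb]
  refine (Function.Exact.iff_of_ladder_addEquiv (e₁ := (e P).toAddEquiv) (e₂ := (e Q).toAddEquiv)
    (e₃ := (e R).toAddEquiv) (f₁₂ := ((g.baseChange B).lTensor N).toAddMonoidHom)
    (f₂₃ := ((g'.baseChange B).lTensor N).toAddMonoidHom) (g₁₂ := (g.lTensor N).toAddMonoidHom)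
    (g₂₃ := (g'.lTensor N).toAddMonoidHom) ?_ ?_).symm
  · exact AddMonoidHom.ext fun z => c g z
  · exact AddMonoidHom.ext fun z => c g' z

/-- Exactness passes to flat algebras over the middle ring. -/
theorem exact_lTensor_of_flat {A' : Type u} [CommRing A'] [Algebra A A'] {P Q R : Type u} [AddCommGroup P]
    [Module A P] [AddCommGroup Q] [Module A Q] [AddCommGroup R] [Module A R] {g : P →ₗ[A] Q} {g' : Q →ₗ[A] R}
    (h : Function.Exact (g.lTensor A') (g'.lTensor A')) (N : Type u) [AddCommGroup N] [Module A N] [Module A' N]
    [IsScalarTower A A' N] [Module.Flat A' N] : Function.Exact (g.lTensor N) (g'.lTensor N) := by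
  have h' : Function.Exact (g.baseChange A') (g'.baseChange A') := h
  exact (exact_lTensor_baseChange_iff g g' N).1 (Module.Flat.lTensor_exact N h')

/-- Transfer of flatness of a base change along ring isomorphisms. -/
theorem flat_tensor_transfer {A' B B' M : Type u} [CommRing A'] [CommRing B] [CommRing B'] (a : A ≃+* A')
    (b : B ≃+* B') [Algebra A B] [Algebra A' B'] (h : ∀ x, b (algebraMap A B x) = algebraMap A' B' (a x))
    [AddCommGroup M] [Module A M] [Module A' M] (hM : ∀ (x : A) (m : M), x • m = a x • m)
    [Module.Flat B' (B' ⊗[A'] M)] : Module.Flat B (B ⊗[A] M) := by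
  letI : Algebra B B' := b.toRingHom.toAlgebra
  letI : Module B (B' ⊗[A'] M) := Module.compHom _ b.toRingHom
  haveI : IsScalarTower B B' (B' ⊗[A'] M) := IsScalarTower.of_algebraMap_smul fun _ _ => rfl
  haveI : Module.Flat B B' := Module.Flat.of_linearEquiv
    (LinearEquiv.ofBijective (Algebra.linearMap B B') b.bijective).symm
  haveI : Module.Flat B (B' ⊗[A'] M) := Module.Flat.trans B B' _
  let φ : B ⊗[A] M →+ B' ⊗[A'] M := TensorProduct.liftAddHom
    { toFun := fun x => AddMonoidHom.mk' (fun m => b x ⊗ₜ[A'] m) fun m m' => TensorProduct.tmul_add _ _ _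
      map_zero' := AddMonoidHom.ext fun m => by simp
      map_add' := fun x y => AddMonoidHom.ext fun m => by simp [TensorProduct.add_tmul] }
    fun r x m => by
      simp only [AddMonoidHom.coe_mk, ZeroHom.coe_mk, AddMonoidHom.mk'_apply]
      rw [hM, Algebra.smul_def r x, map_mul, h, ← Algebra.smul_def, TensorProduct.smul_tmul]
  let ψ : B' ⊗[A'] M →+ B ⊗[A] M := TensorProduct.liftAddHom
    { toFun := fun x => AddMonoidHom.mk' (fun m => b.symm x ⊗ₜ[A] m) fun m m' => TensorProduct.tmul_add _ _ _
      map_zero' := AddMonoidHom.ext fun m => by simp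
      map_add' := fun x y => AddMonoidHom.ext fun m => by simp [TensorProduct.add_tmul] }
    fun r x m => by
      simp only [AddMonoidHom.coe_mk, ZeroHom.coe_mk, AddMonoidHom.mk'_apply]
      obtain ⟨r, rfl⟩ := a.surjective r
      rw [← hM, TensorProduct.tmul_smul, TensorProduct.smul_tmul', Algebra.smul_def, map_mul, ← h,
        RingEquiv.symm_apply_apply, ← Algebra.smul_def]
  let l : B ⊗[A] M →ₗ[B] B' ⊗[A'] M :=
    { toFun := φ
      map_add' := map_add φ
      map_smul' := fun x z => by
        change φ (x • z) = b x • φ z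
        induction z using TensorProduct.induction_on with
        | zero => simp
        | tmul y m => simp [φ, TensorProduct.smul_tmul', map_mul]
        | add z w hz hw => simp only [smul_add, map_add, hz, hw] }
  refine Module.Flat.of_linearEquiv (LinearEquiv.ofBijective l ⟨?_, ?_⟩)
  · refine Function.LeftInverse.injective (g := ψ) fun z => ?_
    change ψ (φ z) = z
    induction z using TensorProduct.induction_on with
    | zero => simp
    | tmul y m => simp [φ, ψ]
    | add z w hz hw => simp only [map_add, hz, hw]
  · refine Function.RightInverse.surjective (g := ψ) fun z => ?_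
    change φ (ψ z) = z
    induction z using TensorProduct.induction_on with
    | zero => simp
    | tmul y m => simp [φ, ψ]
    | add z w hz hw => simp only [map_add, hz, hw]

/-- A stratum on which the terms become flat. -/
theorem good_of_stratum (C : CochainComplex (ModuleCat.{u} A) ℕ) (J : Ideal A) (B : Type u) [CommRing B] [Algebra A B]
    [Algebra (A ⧸ J) B] [IsScalarTower A (A ⧸ J) B] [Module.Flat (A ⧸ J) B]
    (hfl : ∀ p, Module.Flat B (B ⊗[A] (C.X p : Type u))) (hG : Good (ker (dd C 0)).subtype (dd C 0) (A ⧸ J))
    (hex : ∀ p, Function.Exact ((dd C p).lTensor (A ⧸ J)) ((dd C (p + 1)).lTensor (A ⧸ J))) (m : ℕ)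
    (hbig : ∀ p, m ≤ p → ∀ M : ModuleCat.{u} A,
      Function.Exact ((dd C p).lTensor (M : Type u)) ((dd C (p + 1)).lTensor (M : Type u)))
    (N : Type u) [AddCommGroup N] [Module A N] [Module B N] [IsScalarTower A B N] :
    Good (ker (dd C 0)).subtype (dd C 0) N ∧
      ∀ p, Function.Exact ((dd C p).lTensor N) ((dd C (p + 1)).lTensor N) := by
  haveI := hfl
  have hB : Good (ker (dd C 0)).subtype (dd C 0) B := hG.trans (good_of_flat _ B)
  have hexB : ∀ p, Function.Exact ((dd C p).baseChange B) ((dd C (p + 1)).baseChange B) := fun p =>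
    exact_lTensor_of_flat (hex p) B
  obtain ⟨-, h₁, h₂⟩ := good_of_exact (B := B) (C := fun p => B ⊗[A] (C.X p : Type u))
    (fun p => (dd C p).baseChange B) (fun p x => (hexB p).apply_apply_eq_zero x) hexB m fun p hp M _ _ => by
      letI : Module A M := Module.compHom M (algebraMap A B)
      haveI : IsScalarTower A B M := IsScalarTower.of_algebraMap_smul fun _ _ => rfl
      exact (exact_lTensor_baseChange_iff _ _ M).2 (hbig p hp (ModuleCat.of A M))
  exact ⟨hB.trans (h₁ N), fun p => (exact_lTensor_baseChange_iff _ _ N).1 (h₂ p N)⟩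

end

end Groth.Agent.HilbFib
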