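import Groth.Agent.W7Cech.Complex
import Groth.Agent.CohFinite.Ample
import Groth.Agent.CohFinite.Proper
import Groth.Agent.CurveRR.TmapR
import Groth.Agent.ExtShX.AffineTilde
import Groth.Agent.QC.Coherent

/-!
Right exactness of global sections after a large twist.
-/

set_option autoImplicit false
set_option backward.isDefEq.respectTransparency false
set_option backward.isDefEq.respectTransparency.types false
set_option linter.style.haveILetI false
set_option maxHeartbeats 1000000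

universe u

open CategoryTheory CategoryTheory.Limits AlgebraicGeometry TopologicalSpace Opposite
open Groth.Agent.CohFinite (tmap tmap_tm shortExact_tmap tmap_comp)
open TMul (tm)

noncomputable section

namespace Groth.Agent.HilbFib

variable {X : Scheme.{u}}

/-- The map on `H^0`. -/
abbrev h0Map {M N : X.Modules} (φ : M ⟶ N) : Coh.HH X M 0 → Coh.HH X N 0 :=
  Sheaf.H.map ((SheafOfModules.toSheaf X.ringCatSheaf).map φ) 0

theorem h0Map_comp {M N P : X.Modules} (φ : M ⟶ N) (ψ : N ⟶ P) (x : Coh.HH X M 0) :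
    h0Map (φ ≫ ψ) x = h0Map ψ (h0Map φ x) := by
  unfold h0Map
  rw [Functor.map_comp, Sheaf.H.map_comp_apply]

theorem surjective_h0 {S : ShortComplex X.Modules} (hS : S.ShortExact) [Subsingleton (Coh.HH X S.X₁ 1)] :
    Function.Surjective (h0Map S.g) := fun x =>
  (CohFinite.δH_eq_zero_iff (CohFinite.shortExact_toAb hS) 0 x).1
    (@Subsingleton.elim (Coh.HH X S.X₁ 1) inferInstance _ _)

theorem exact_h0 {S : ShortComplex X.Modules} (hS : S.ShortExact) (x : Coh.HH X S.X₂ 0) (hx : h0Map S.g x = 0) :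
    ∃ y, h0Map S.f y = x :=
  (CohFinite.map_g_eq_zero_iff (CohFinite.shortExact_toAb hS) 0 x).1 hx

variable {A : Type u} [CommRing A] [IsNoetherianRing A] (q : X ⟶ Spec (CommRingCat.of A)) [IsProper q]
  {L : X.Modules} (hL : CohB1.IsAmple L)

include q hL in
/-- Surjectivity on sections after a large twist. -/
theorem exists_surjective_h0 {P Q : X.Modules} (hP : Coh.IsCoh P) (hQ : Coh.IsQCoh Q) (ψ : P ⟶ Q) [Epi ψ] :
    ∃ N : ℕ, ∀ n, N ≤ n → Function.Surjective (h0Map (tmap ψ (CohB1.tensorPow L n))) ∧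
      ∀ x, h0Map (tmap ψ (CohB1.tensorPow L n)) x = 0 →
        ∃ y, h0Map (tmap (kernel.ι ψ) (CohB1.tensorPow L n)) y = x := by
  haveI : IsLocallyNoetherian X := LocallyOfFiniteType.isLocallyNoetherian q
  obtain ⟨N, hN⟩ := CohFinite.vanish_ample q hL (QC.isCoh_kernel hP hQ ψ)
  refine ⟨N, fun n hn => ?_⟩
  have hS : (ShortComplex.mk (kernel.ι ψ) ψ (kernel.condition ψ)).ShortExact :=
    { exact := ShortComplex.exact_of_f_is_kernel _ (kernelIsKernel ψ) }
  have hT := shortExact_tmap (L := CohB1.tensorPow L n) (TMul.isInvertible_tensorPow hL.1 n) hS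
  have h1 := @surjective_h0 _ _ hT (hN n hn 0)
  have h2 := exact_h0 hT
  dsimp only at h1 h2
  exact ⟨h1, h2⟩

include q hL in
/-- Exactness on sections after a large twist. -/
theorem exists_exact_h0 {P₁ P₀ Q : X.Modules} (h₁ : Coh.IsCoh P₁) (h₀ : Coh.IsCoh P₀) (hQ : Coh.IsQCoh Q)
    (φ : P₁ ⟶ P₀) (ψ : P₀ ⟶ Q) (w : φ ≫ ψ = 0) [Epi ψ] (hex : (ShortComplex.mk φ ψ w).Exact) :
    ∃ N : ℕ, ∀ n, N ≤ n → Function.Surjective (h0Map (tmap ψ (CohB1.tensorPow L n))) ∧
      ∀ x, h0Map (tmap ψ (CohB1.tensorPow L n)) x = 0 → ∃ y, h0Map (tmap φ (CohB1.tensorPow L n)) y = x := by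
  haveI : IsLocallyNoetherian X := LocallyOfFiniteType.isLocallyNoetherian q
  haveI : Epi (kernel.lift ψ φ w) := (ShortComplex.exact_iff_epi_kernel_lift _).1 hex
  obtain ⟨N, hN⟩ := exists_surjective_h0 q hL h₀ hQ ψ
  obtain ⟨M, hM⟩ := exists_surjective_h0 q hL h₁ (QC.isQCoh_kernel h₀.1 hQ ψ) (kernel.lift ψ φ w)
  refine ⟨max N M, fun n hn => ⟨(hN n ((le_max_left _ _).trans hn)).1, fun x hx => ?_⟩⟩
  obtain ⟨z, rfl⟩ := (hN n ((le_max_left _ _).trans hn)).2 x hx
  obtain ⟨y, rfl⟩ := (hM n ((le_max_right _ _).trans hn)).1 z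
  exact ⟨y, by rw [← h0Map_comp, ← tmap_comp, kernel.lift_ι]⟩

section Assoc

variable {R : Type u} [CommRing R] [X.Over (Spec (CommRingCat.of R))] (F T : X.Modules)

/-- `F ⊗_A M` commutes with twists. -/
def twistIso (M : ModuleCat.{u} R) :
    CohB1.tensorMod ((CohIII.tensorAFunctor R F).obj M) T ≅
      (CohIII.tensorAFunctor R (CohB1.tensorMod F T)).obj M :=
  TMul.assocIso ((Scheme.Modules.pullback (X ↘ Spec (CommRingCat.of R))).obj (tilde (R := CommRingCat.of R) M)) F T

theorem twistIso_natural {M N : ModuleCat.{u} R} (g : M ⟶ N) :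
    tmap ((CohIII.tensorAFunctor R F).map g) T ≫ (twistIso F T N).hom =
      (twistIso F T M).hom ≫ (CohIII.tensorAFunctor R (CohB1.tensorMod F T)).map g := by
  refine TMul.hom_ext₃ fun U m f t => ?_
  let φ := (Scheme.Modules.pullback (X ↘ Spec (CommRingCat.of R))).map (tilde.map (R := CommRingCat.of R) g)
  change (TMul.assocHom _ F T).app U ((tmap ((DCoh.tensorRightMod F).map φ) T).app U (tm (tm m f) t)) =
    ((DCoh.tensorRightMod (CohB1.tensorMod F T)).map φ).app U ((TMul.assocHom _ F T).app U (tm (tm m f) t))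
  rw [TMul.assocHom_tm, tmap_tm, W7Cech.map_tm, W7Cech.map_tm, TMul.assocHom_tm]

theorem isCoh_tensorAFunctor [IsNoetherianRing R] [LocallyOfFiniteType (X ↘ Spec (CommRingCat.of R))]
    (hF : Coh.IsCoh F) (M : ModuleCat.{u} R) [Module.Finite R M] :
    Coh.IsCoh ((CohIII.tensorAFunctor R F).obj M) :=
  haveI : IsLocallyNoetherian X := LocallyOfFiniteType.isLocallyNoetherian (X ↘ Spec (CommRingCat.of R))
  CurveRR.isCoh_tensor' (QC.isCoh_pullback (X ↘ Spec (CommRingCat.of R)) (ExtShX.isCoh_tilde R M)) hF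

/-- The presentation of `F ⊗_A M`. -/
theorem exact_tensorAFunctor {M₁ M₀ M : ModuleCat.{u} R} (g : M₁ ⟶ M₀) (π : M₀ ⟶ M) (w : g ≫ π = 0) [Epi π]
    (hex : (ShortComplex.mk g π w).Exact) :
    ∃ w' : (CohIII.tensorAFunctor R F).map g ≫ (CohIII.tensorAFunctor R F).map π = 0,
      Epi ((CohIII.tensorAFunctor R F).map π) ∧ (ShortComplex.mk _ _ w').Exact := by
  haveI := W7Cech.preservesColimits_tensorAFunctor R F
  haveI : (CohIII.tensorAFunctor R F).Additive := by unfold CohIII.tensorAFunctor; infer_instance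
  have w' : (CohIII.tensorAFunctor R F).map g ≫ (CohIII.tensorAFunctor R F).map π = 0 := by
    rw [← Functor.map_comp, w, Functor.map_zero]
  obtain ⟨h⟩ : Nonempty (IsColimit (CokernelCofork.ofπ π w)) := ⟨hex.gIsCokernel⟩
  have h' := CokernelCofork.mapIsColimit _ h (CohIII.tensorAFunctor R F)
  exact ⟨w', inferInstance, ShortComplex.exact_of_g_is_cokernel (ShortComplex.mk _ _ w') h'⟩

end Assoc

end Groth.Agent.HilbFib
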