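import Groth.Agent.HilbFib.Basic
import Groth.Agent.HilbFib.Twist
import Groth.Agent.HilbFib.Strat
import Groth.Agent.W7Cech.Approx
import Groth.Agent.W7Cech.TwistInv

/-!
The direct images of large twists and their fibres over a Noetherian affine base.
-/

set_option autoImplicit false
set_option backward.isDefEq.respectTransparency false
set_option backward.isDefEq.respectTransparency.types false
set_option linter.style.haveILetI false
set_option maxHeartbeats 1600000

universe u

open CategoryTheory CategoryTheory.Limits AlgebraicGeometry TopologicalSpace Opposite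
open Groth.Agent.SiteCoh
open Groth.Agent.CohFinite (tmap)
open scoped TensorProduct

noncomputable section

namespace Groth.Agent.HilbFib

variable (A : Type u) [CommRing A] {X : Scheme.{u}} [X.Over (Spec (CommRingCat.of A))]
  {ι : Type u} [Finite ι] (U : ι → X.Opens)
  (hU : ∀ (n : ℕ) (a : Fin (n + 1) → ι), IsAffineOpen (tupleProd U a)) (hcov : iSup U = ⊤)
  (L F : X.Modules)

/-- The Čech complex of the twist. -/
abbrev twistCx (n : ℕ) : CochainComplex (ModuleCat.{u} A) ℕ :=
  (W7Cech.CC A U).obj (CohB1.tensorMod F (CohB1.tensorPow L n))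

theorem h0Map_bijective {M N : X.Modules} (e : M ≅ N) : Function.Bijective (h0Map e.hom) := by
  refine Function.bijective_iff_has_inverse.2 ⟨h0Map e.inv, fun x => ?_, fun x => ?_⟩ <;>
  · rw [← h0Map_comp]
    first | rw [Iso.hom_inv_id] | rw [Iso.inv_hom_id]
    unfold h0Map
    rw [CategoryTheory.Functor.map_id, Sheaf.H.map_id_apply]

variable {L F} [IsNoetherianRing A] [IsProper (X ↘ Spec (CommRingCat.of A))] (hL : CohB1.IsAmple L)
  (hF : Coh.IsCoh F)

include hU hcov hL hF in
/-- Goodness at a quotient of the base. -/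
theorem eventually_quotient (J : Ideal A) : ∃ N : ℕ, ∀ n, N ≤ n →
    Good (LinearMap.ker (dd (twistCx A U L F n) 0)).subtype (dd (twistCx A U L F n) 0) (A ⧸ J) ∧
      ∀ p, Function.Exact ((dd (twistCx A U L F n) p).lTensor (A ⧸ J))
        ((dd (twistCx A U L F n) (p + 1)).lTensor (A ⧸ J)) := by
  obtain ⟨m, φ, hφ⟩ := Module.Finite.exists_fin' A J
  let M₁ : ModuleCat.{u} A := ModuleCat.of A (Fin m → A)
  let M : ModuleCat.{u} A := ModuleCat.of A (A ⧸ J)
  let g : M₁ ⟶ ModuleCat.of A A := ModuleCat.ofHom (J.subtype ∘ₗ φ)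
  let π : ModuleCat.of A A ⟶ M := ModuleCat.ofHom (Submodule.mkQ J)
  have hgπ : Function.Exact g.hom π.hom := fun x => by
    change Submodule.mkQ J x = 0 ↔ _
    rw [Submodule.mkQ_apply, Submodule.Quotient.mk_eq_zero]
    constructor
    · intro hx
      obtain ⟨y, hy⟩ := hφ ⟨x, hx⟩
      exact ⟨y, congrArg Subtype.val hy⟩
    · rintro ⟨y, rfl⟩
      exact (φ y).2
  haveI : Epi π := (ModuleCat.epi_iff_surjective π).2 (Submodule.mkQ_surjective J)
  have w : g ≫ π = 0 := ModuleCat.hom_ext (LinearMap.ext fun x => hgπ.apply_apply_eq_zero x)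
  have hsc : (ShortComplex.mk g π w).Exact :=
    (ShortComplex.moduleCat_exact_iff_range_eq_ker _).2 (LinearMap.exact_iff.1 hgπ).symm
  obtain ⟨w', hepi, hex'⟩ := exact_tensorAFunctor F g π w hsc
  haveI : Module.Finite A (M₁ : Type u) := inferInstanceAs (Module.Finite A (Fin m → A))
  haveI : Module.Finite A (M : Type u) := inferInstanceAs (Module.Finite A (A ⧸ J))
  haveI : Module.Finite A (ModuleCat.of A A : Type u) := inferInstanceAs (Module.Finite A A)
  have hcoh : ∀ N : ModuleCat.{u} A, Module.Finite A (N : Type u) →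
      Coh.IsCoh ((CohIII.tensorAFunctor A F).obj N) := fun N _ => isCoh_tensorAFunctor F hF N
  haveI := hepi
  obtain ⟨N₀, hN₀⟩ := exists_exact_h0 (X ↘ Spec (CommRingCat.of A)) hL (hcoh M₁ inferInstance)
    (hcoh (ModuleCat.of A A) inferInstance) (hcoh M inferInstance).1 _ _ w' hex'
  obtain ⟨N₁, hN₁⟩ := CohFinite.vanish_ample (X ↘ Spec (CommRingCat.of A)) hL (hcoh M inferInstance)
  refine ⟨max N₀ N₁, fun n hn => ?_⟩
  obtain ⟨hsur, hker⟩ := hN₀ n ((le_max_left _ _).trans hn)
  let T := CohB1.tensorPow L n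
  have hq : Coh.IsQCoh (CohB1.tensorMod F T) :=
    TMul.isQCoh_tensor (TMul.isInvertible_tensorPow hL.1 n) (hF := hF.1)
  let G := CohIII.tensorAFunctor A (CohB1.tensorMod F T)
  let i := twistIso (R := A) F T
  have hnat : ∀ {P Q : ModuleCat.{u} A} (k : P ⟶ Q) (x : Coh.HH X (CohB1.tensorMod ((CohIII.tensorAFunctor A F).obj P) T) 0),
      h0Map (G.map k) (h0Map (i P).hom x) = h0Map (i Q).hom (h0Map (tmap ((CohIII.tensorAFunctor A F).map k) T) x) := by
    intro P Q k x
    rw [← h0Map_comp, ← h0Map_comp]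
    exact congrArg (fun z => h0Map z x) (twistIso_natural F T k).symm
  refine ⟨?_, fun p => ?_⟩
  · obtain ⟨e, he⟩ := W7Cech.exists_TEquiv A U hU hcov _ hq 0
    refine good_of_presentation (twistCx A U L F n) g π hgπ (Submodule.mkQ_surjective J) (fun z => ?_)
      fun z hz => ?_
    · obtain ⟨y, hy⟩ := (h0Map_bijective (i M)).2 (e M z)
      obtain ⟨x, rfl⟩ := hsur y
      refine ⟨(e _).symm (h0Map (i _).hom x), (e M).injective ?_⟩
      rw [he, LinearEquiv.apply_symm_apply]
      exact (hnat π x).trans hy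
    · obtain ⟨x, hx⟩ := (h0Map_bijective (i (ModuleCat.of A A))).2 (e _ z)
      have h1 : h0Map (i M).hom (h0Map (tmap ((CohIII.tensorAFunctor A F).map π) T) x) = 0 := by
        rw [← hnat, hx]
        exact (he _ _ π z).symm.trans ((congrArg (e M) hz).trans (map_zero _))
      obtain ⟨y, hy⟩ := hker x ((h0Map_bijective (i M)).1 (h1.trans (map_zero _).symm))
      refine ⟨(e M₁).symm (h0Map (i M₁).hom y), (e _).injective ?_⟩
      rw [he, LinearEquiv.apply_symm_apply, ← hx, ← hy]
      exact hnat g y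
  · obtain ⟨e, -⟩ := W7Cech.exists_TEquiv A U hU hcov _ hq (p + 1)
    haveI : Subsingleton (Coh.HH X (G.obj M) (p + 1)) :=
      haveI := hN₁ n ((le_max_right _ _).trans hn) p
      (CohFinite.hhEquiv A (i M) (p + 1)).symm.injective.subsingleton
    haveI : Subsingleton (CohIII.T (twistCx A U L F n) (p + 1) M) := (e M).injective.subsingleton
    exact exact_lTensor_of_subsingleton (twistCx A U L F n) p M

omit [IsNoetherianRing A] [IsProper (X ↘ Spec (CommRingCat.of A))] in
include hU hcov in
/-- Vanishing in high degrees, for all coefficients. -/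
theorem exact_high [X.IsSeparated] (G : X.Modules) (hG : Coh.IsQCoh G) (p : ℕ) (hp : Nat.card ι ≤ p + 1)
    (M : ModuleCat.{u} A) :
    Function.Exact ((dd ((W7Cech.CC A U).obj G) p).lTensor (M : Type u))
      ((dd ((W7Cech.CC A U).obj G) (p + 1)).lTensor (M : Type u)) := by
  obtain ⟨e, -⟩ := W7Cech.exists_TEquiv A U hU hcov G hG (p + 1)
  let G' := (CohIII.tensorAFunctor A G).obj M
  haveI : G'.IsQuasicoherent := W7Cech.isQCoh_tensorAFunctor A G hG M
  let σ := Finite.equivFin ι
  have hs : (⨆ i, U (σ.symm i)) = (⊤ : X.Opens) := by rw [← hcov]; exact σ.symm.iSup_comp (g := U)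
  have := CohQC.hu_affine_cover_vanish G' (Nat.card ι) (fun i => U (σ.symm i))
    (fun i => by
      have := hU 0 fun _ => σ.symm i
      rwa [tupleProd_eq_iInf, iInf_const] at this)
    (fun V W hV hW => hV.inf hW) (p + 1) hp
  haveI : Subsingleton (Coh.HH X G' (p + 1)) :=
    (huTerminalEquiv (Opens.grothendieckTopology X) (hs.symm ▸ isTerminalTop) (Coh.toAb G') (p + 1)).injective.subsingleton
  haveI : Subsingleton (CohIII.T ((W7Cech.CC A U).obj G) (p + 1) M) := (e M).injective.subsingleton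
  exact exact_lTensor_of_subsingleton _ p M

omit [IsNoetherianRing A] [IsProper (X ↘ Spec (CommRingCat.of A))] in
/-- Flatness of the base changed sections over an affine open. -/
theorem flat_bc_secA {B : Type u} [CommRing B] [Algebra A B] (G : X.Modules) [Coh.IsQCoh G] {W : X.Opens}
    (hW : IsAffineOpen W) (g : Spec (CommRingCat.of B) ⟶ Spec (CommRingCat.of A))
    (hfl : FlatMod.IsFlatOver (pullback.snd (X ↘ Spec (CommRingCat.of A)) g)
      ((Scheme.Modules.pullback (pullback.fst (X ↘ Spec (CommRingCat.of A)) g)).obj G))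
    (hg : ∀ x, (g.appLE ⊤ ⊤ le_top).hom ((Scheme.ΓSpecIso (CommRingCat.of A)).inv.hom x) =
      (Scheme.ΓSpecIso (CommRingCat.of B)).inv.hom (algebraMap A B x)) :
    Module.Flat B (B ⊗[A] ((W7Cech.secA A W).obj G : Type u)) := by
  let π := X ↘ Spec (CommRingCat.of A)
  let V : (Spec (CommRingCat.of A)).Opens := ⊤
  have e : W ≤ π ⁻¹ᵁ V := le_top
  have eO : (⊤ : (Spec (CommRingCat.of B)).Opens) ≤ g ⁻¹ᵁ V := le_top
  letI : Algebra Γ(Spec (CommRingCat.of A), V) Γ(Spec (CommRingCat.of B), ⊤) := (g.appLE V ⊤ eO).hom.toAlgebra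
  letI : Module Γ(Spec (CommRingCat.of A), V) Γ(G, W) := Module.compHom _ (π.appLE V W e).hom
  letI : Module A Γ(G, W) := Module.compHom _ (W7Cech.secRing A W)
  haveI := FlatModBC.flat_tensor_sections (IsPullback.of_hasPullback π g) G (isAffineOpen_top _) hW e
    (isAffineOpen_top _) eO hfl
  have h := flat_tensor_transfer (A := A) (B := B) (M := Γ(G, W))
    (Scheme.ΓSpecIso (CommRingCat.of A)).symm.commRingCatIsoToRingEquiv
    (Scheme.ΓSpecIso (CommRingCat.of B)).symm.commRingCatIsoToRingEquiv (fun x => (hg x).symm) fun x s => rfl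
  exact h

include hU hcov hL hF in
/-- Finitely many strata of the base on which everything is good. -/
theorem exists_core : ∃ N : ℕ, ∀ n, N ≤ n → ∀ (κ : Type u) [Field κ] [Algebra A κ],
    Good (LinearMap.ker (dd (twistCx A U L F n) 0)).subtype (dd (twistCx A U L F n) 0) κ ∧
      ∀ p, Function.Exact ((dd (twistCx A U L F n) p).lTensor κ) ((dd (twistCx A U L F n) (p + 1)).lTensor κ) := by
  classical
  let π := X ↘ Spec (CommRingCat.of A)
  haveI : IsLocallyNoetherian X := LocallyOfFiniteType.isLocallyNoetherian π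
  haveI := hF.1
  have hfp : CohB1.IsFP F := QC.isFP_of_isQCoh_of_isFT hF.2
  haveI : X.IsSeparated := by
    constructor
    rw [← terminal.comp_from π]
    infer_instance
  let V : (Spec (CommRingCat.of A)).Opens := ⊤
  let hV : IsAffineOpen V := isAffineOpen_top _
  obtain ⟨m, J', h', -, hflat, hcovs⟩ := exists_strata_ring π F hfp hV
  let a : A ≃+* Γ(Spec (CommRingCat.of A), V) :=
    (Scheme.ΓSpecIso (CommRingCat.of A)).symm.commRingCatIsoToRingEquiv
  let J : Fin m → Ideal A := fun i => (J' i).map a.symm.toRingHom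
  choose N hN using fun i => eventually_quotient A U hU hcov hL hF (J i)
  refine ⟨Finset.univ.sup N, fun n hn κ _ _ => ?_⟩
  let p₀ : PrimeSpectrum Γ(Spec (CommRingCat.of A), V) :=
    ⟨RingHom.ker ((algebraMap A κ).comp a.symm.toRingHom), RingHom.ker_isPrime _⟩
  obtain ⟨i, hJ, hh⟩ := hcovs p₀
  let h : A := a.symm (h' i)
  let B := StratRing (J i) h
  have hJκ : ∀ x ∈ J i, algebraMap A κ x = 0 := by
    intro x hx
    obtain ⟨y, hy, rfl⟩ := (Ideal.mem_map_iff_of_surjective a.symm.toRingHom a.symm.surjective).1 hx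
    exact hJ hy
  let ψ₀ : A ⧸ J i →+* κ := Ideal.Quotient.lift (J i) (algebraMap A κ) hJκ
  have hu : IsUnit (ψ₀ (Ideal.Quotient.mk (J i) h)) := isUnit_iff_ne_zero.2 fun h0 => hh h0
  let ψ : B →+* κ := IsLocalization.Away.lift (Ideal.Quotient.mk (J i) h) hu
  letI : Algebra B κ := ψ.toAlgebra
  haveI : IsScalarTower A B κ := IsScalarTower.of_algebraMap_eq fun x => by
    change algebraMap A κ x = ψ (algebraMap A B x)
    rw [IsScalarTower.algebraMap_apply A (A ⧸ J i) B]
    exact (IsLocalization.Away.lift_eq (Ideal.Quotient.mk (J i) h) hu (Ideal.Quotient.mk (J i) x)).symm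
  haveI : Module.Flat (A ⧸ J i) B := IsLocalization.flat B (Submonoid.powers (Ideal.Quotient.mk (J i) h))
  let T := CohB1.tensorPow L n
  have hT : PicF.IsInvertible T := TMul.isInvertible_tensorPow hL.1 n
  haveI hq : (CohB1.tensorMod F T).IsQuasicoherent := TMul.isQCoh_tensor hT (hF := hF.1)
  let φ : A →+* B := algebraMap A B
  let q : Γ(Spec (CommRingCat.of A), V) ⟶ CommRingCat.of B := CommRingCat.ofHom (φ.comp a.symm.toRingHom)
  let g : Spec (CommRingCat.of B) ⟶ Spec (CommRingCat.of A) := Spec.map q ≫ hV.fromSpec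
  have hq₁ : (J' i).map q.hom = ⊥ := by
    rw [show q.hom = φ.comp a.symm.toRingHom from rfl, ← Ideal.map_map, eq_bot_iff, Ideal.map_le_iff_le_comap]
    intro x hx
    change φ x = 0
    rw [show φ x = algebraMap (A ⧸ J i) B (Ideal.Quotient.mk (J i) x) from
      IsScalarTower.algebraMap_apply A (A ⧸ J i) B x, Ideal.Quotient.eq_zero_iff_mem.2 hx, map_zero]
  have hq₂ : IsUnit (q (h' i)) := by
    change IsUnit (algebraMap A B h)
    rw [IsScalarTower.algebraMap_apply A (A ⧸ J i) B]
    exact IsLocalization.Away.algebraMap_isUnit (Ideal.Quotient.mk (J i) h)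
  have hfl₀ := hflat i _ q hq₁ hq₂
  obtain ⟨j⟩ := TMul.nonempty_pullTensorIso (pullback.fst π g) F T
  have hfl₁ : FlatMod.IsFlatOver (pullback.snd π g) ((Scheme.Modules.pullback (pullback.fst π g)).obj (CohB1.tensorMod F T)) := fun z =>
    FlatLimMod.isFlatOverAt_of_iso _ j (W7Cech.isFlatOver_tensor_invertible _ (QC.isQCoh_pullback _ hF.1) hfl₀
      (PicLoc.isInvertible_pullback _ hT) z)
  have hterm : ∀ p, Module.Flat B (B ⊗[A] ((twistCx A U L F n).X p : Type u)) := by
    intro p
    haveI : Fintype (Fin (p + 1) → ι) := Fintype.ofFinite _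
    haveI : ∀ b : Fin (p + 1) → ι, Module.Flat B (B ⊗[A]
        ((W7Cech.secA A (tupleProd U b)).obj (CohB1.tensorMod F T) : Type u)) := fun b =>
      flat_bc_secA A (CohB1.tensorMod F T) (hU p b) g hfl₁ fun x => by
        rw [show (g.appLE ⊤ ⊤ le_top) = q ≫ (Scheme.ΓSpecIso (CommRingCat.of B)).inv from stratι_appLE hV q]
        change (Scheme.ΓSpecIso (CommRingCat.of B)).inv.hom (φ (a.symm (a x))) = _
        rw [RingEquiv.symm_apply_apply]
    haveI := W7Cech.flat_pi B fun b : Fin (p + 1) → ι => (B ⊗[A]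
        ((W7Cech.secA A (tupleProd U b)).obj (CohB1.tensorMod F T) : Type u) : Type u)
    exact Module.Flat.of_linearEquiv (TensorProduct.piRight A B B fun b : Fin (p + 1) → ι =>
      ((W7Cech.secA A (tupleProd U b)).obj (CohB1.tensorMod F T) : Type u))
  obtain ⟨hG, hex⟩ := hN i n ((Finset.le_sup (Finset.mem_univ i)).trans hn)
  exact good_of_stratum (twistCx A U L F n) (J i) B hterm hG hex (Nat.card ι)
    (fun p hp M => exact_high A U hU hcov _ hq p (by omega) M) κ

end Groth.Agent.HilbFib
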