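import Groth.Agent.HilbFib.Lin
import Groth.Agent.W7Strat.Fit

/-!
Projectivity from a residually injective map to a flat module.
-/

set_option autoImplicit false
set_option backward.isDefEq.respectTransparency false
set_option backward.isDefEq.respectTransparency.types false
set_option linter.style.haveILetI false

universe u

open TensorProduct

namespace Groth.Agent.HilbFib

/-- A finite module with a residually injective map to a flat module is free over a local ring. -/
theorem free_of_residue_injective {R : Type u} [CommRing R] [IsLocalRing R] {M N : Type u} [AddCommGroup M]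
    [Module R M] [Module.Finite R M] [AddCommGroup N] [Module R N] [Module.Flat R N] (φ : M →ₗ[R] N)
    (h : Function.Injective (φ.lTensor (IsLocalRing.ResidueField R))) : Module.Free R M := by
  let k := IsLocalRing.ResidueField R
  let w := Module.Free.chooseBasis k (k ⊗[R] M)
  obtain ⟨v, eq⟩ := (TensorProduct.mk_surjective R M k Ideal.Quotient.mk_surjective).comp_left w
  have h' : Function.Injective (φ.baseChange k) := h
  have hv : LinearIndependent k (TensorProduct.mk R k N 1 ∘ φ ∘ v) := by
    have h1 := w.linearIndependent.map' (φ.baseChange k) (LinearMap.ker_eq_bot.2 h')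
    have he : TensorProduct.mk R k N 1 ∘ φ ∘ v = φ.baseChange k ∘ w := funext fun i => by
      simp only [Function.comp_apply, TensorProduct.mk_apply, ← congr_fun eq i]
      rfl
    rw [he]
    exact h1
  refine .of_basis <| .mk ((Module.IsLocalRing.linearIndependent_of_flat _ hv).of_comp φ) ?_
  exact (IsLocalRing.span_eq_top_of_tmul_eq_basis _ w <| congr_fun eq).ge

/-- A finite module with a residually injective map to a flat module is flat. -/
theorem flat_of_residue_injective {B : Type u} [CommRing B] {M N : Type u} [AddCommGroup M] [Module B M]
    [Module.Finite B M] [AddCommGroup N] [Module B N] [Module.Flat B N] (φ : M →ₗ[B] N)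
    (h : ∀ (q : Ideal B) [q.IsPrime], Function.Injective (φ.lTensor q.ResidueField)) : Module.Flat B M := by
  refine Module.flat_of_localized_maximal M fun q _ => ?_
  let R := Localization.AtPrime q
  let κ := IsLocalRing.ResidueField R
  haveI : Module.Free R (R ⊗[B] M) := by
    refine free_of_residue_injective (φ.baseChange R) ?_
    let eM := (AlgebraTensorModule.cancelBaseChange B R R κ M)
    let eN := (AlgebraTensorModule.cancelBaseChange B R R κ N)
    have c : ∀ z, φ.lTensor κ (eM z) = eN ((φ.baseChange R).lTensor κ z) := fun z => by
      induction z using TensorProduct.induction_on with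
      | zero => simp
      | tmul x y =>
        induction y using TensorProduct.induction_on with
        | zero => simp
        | tmul b m => simp [eM, eN]
        | add a b ha hb => simp only [tmul_add, map_add, ha, hb]
      | add a b ha hb => simp only [map_add, ha, hb]
    intro x y hxy
    refine eM.injective (h q ?_)
    rw [c, c, hxy]
  haveI : Module.Flat R (R ⊗[B] M) := Module.Flat.of_free
  haveI : Module.Flat B R := IsLocalization.flat R q.primeCompl
  haveI : Module.Flat B (R ⊗[B] M) := Module.Flat.trans B R _
  exact Module.Flat.of_linearEquiv (IsLocalizedModule.iso q.primeCompl (TensorProduct.mk B R M 1))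

variable {A : Type u} [CommRing A] {K C₀ : Type u} [AddCommGroup K] [Module A K]
  [AddCommGroup C₀] [Module A C₀]

/-- The kernel of a flat complex with good fibres has flat base change of the expected rank. -/
theorem good_baseChange_of_fibres [Module.FinitePresentation A K] (ι : K →ₗ[A] C₀) (B : Type u) [CommRing B]
    [Algebra A B] [Module.Flat B (B ⊗[A] C₀)] (r : ℕ)
    (hι : ∀ (κ : Type u) [Field κ] [Algebra A κ], Function.Injective (ι.lTensor κ))
    (hr : ∀ q : PrimeSpectrum B, Module.finrank (q.asIdeal.comap (algebraMap A B)).ResidueField
      ((q.asIdeal.comap (algebraMap A B)).ResidueField ⊗[A] K) = r) :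
    W7Strat.Good (A := B) (B ⊗[A] K) r := by
  haveI : Module.FinitePresentation B (B ⊗[A] K) := inferInstance
  haveI : Module.Flat B (B ⊗[A] K) := by
    refine flat_of_residue_injective (ι.baseChange B) fun q _ => ?_
    let κ := q.ResidueField
    let eK := (AlgebraTensorModule.cancelBaseChange A B B κ K)
    let eC := (AlgebraTensorModule.cancelBaseChange A B B κ C₀)
    have c : ∀ z, ι.lTensor κ (eK z) = eC ((ι.baseChange B).lTensor κ z) := fun z => by
      induction z using TensorProduct.induction_on with
      | zero => simp
      | tmul x y =>
        induction y using TensorProduct.induction_on with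
        | zero => simp
        | tmul b m => simp [eK, eC]
        | add a b ha hb => simp only [tmul_add, map_add, ha, hb]
      | add a b ha hb => simp only [map_add, ha, hb]
    intro x y hxy
    refine eK.injective (hι κ ?_)
    rw [c, c, hxy]
  refine ⟨Module.Flat.projective_of_finitePresentation, fun q => ?_⟩
  have key : ∀ k, (Module.finrank q.asIdeal.ResidueField (q.asIdeal.ResidueField ⊗[B] (B ⊗[A] K)) ≤ k ↔ r ≤ k) := by
    intro k
    rw [← Fitting.not_le_iff_finrank, Fitting.ideal_baseChange B k, Ideal.map_le_iff_le_comap,
      Fitting.not_le_iff_finrank, hr q]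
  exact le_antisymm ((key r).2 le_rfl) ((key _).1 le_rfl)

end Groth.Agent.HilbFib
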