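import Mathlib

/-!
Kernels commuting with tensor products, and universally exact complexes of flat modules.
-/

set_option autoImplicit false
set_option linter.style.haveILetI false

universe u

open TensorProduct LinearMap

namespace Groth.Agent.HilbFib

section

variable {A : Type u} [CommRing A] {K C₀ C₁ : Type u} [AddCommMonoid K] [Module A K] [AddCommGroup C₀] [Module A C₀]
  [AddCommGroup C₁] [Module A C₁]

/-- Tensoring with `M` keeps `0 → K → C₀ → C₁` exact. -/
def Good (ι : K →ₗ[A] C₀) (d : C₀ →ₗ[A] C₁) (M : Type u) [AddCommGroup M] [Module A M] : Prop :=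
  Function.Injective (ι.lTensor M) ∧ Function.Exact (ι.lTensor M) (d.lTensor M)

variable {ι : K →ₗ[A] C₀} {d : C₀ →ₗ[A] C₁}

theorem Good.of_equiv {M M' : Type u} [AddCommGroup M] [Module A M] [AddCommGroup M'] [Module A M']
    (e : M ≃ₗ[A] M') (h : Good ι d M) : Good ι d M' := by
  have c : ∀ {P Q : Type u} [AddCommMonoid P] [Module A P] [AddCommMonoid Q] [Module A Q] (g : P →ₗ[A] Q)
      (z : M ⊗[A] P), g.lTensor M' (e.toLinearMap.rTensor P z) = e.toLinearMap.rTensor Q (g.lTensor M z) := by
    intro P Q _ _ _ _ g z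
    induction z using TensorProduct.induction_on with
    | zero => simp
    | tmul m p => simp
    | add a b ha hb => simp only [map_add, ha, hb]
  refine (Function.Exact.of_ladder_linearEquiv_of_exact (e₁ := LinearEquiv.rTensor K e)
    (e₂ := LinearEquiv.rTensor C₀ e) (e₃ := LinearEquiv.rTensor C₁ e) ?_ ?_ h.2 |> fun hex => ⟨?_, hex⟩)
  · exact LinearMap.ext fun z => c ι z
  · exact LinearMap.ext fun z => c d z
  · intro x y hxy
    obtain ⟨x, rfl⟩ := (LinearEquiv.rTensor K e).surjective x
    obtain ⟨y, rfl⟩ := (LinearEquiv.rTensor K e).surjective y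
    have hx := c ι x
    have hy := c ι y
    exact congrArg _ (h.1 ((LinearEquiv.rTensor C₀ e).injective (hx.symm.trans (hxy.trans hy))))

/-- Flat modules preserve goodness. -/
theorem Good.tensor_flat {M : Type u} [AddCommGroup M] [Module A M] (h : Good ι d M) (P : Type u) [AddCommGroup P]
    [Module A P] [Module.Flat A P] : Good ι d (P ⊗[A] M) := by
  have c : ∀ {Q R : Type u} [AddCommMonoid Q] [Module A Q] [AddCommMonoid R] [Module A R] (g : Q →ₗ[A] R),
      g.lTensor (P ⊗[A] M) = (TensorProduct.assoc A P M R).symm.toLinearMap ∘ₗ (g.lTensor M).lTensor P ∘ₗ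
        (TensorProduct.assoc A P M Q).toLinearMap := fun g => by
    ext p m q
    simp
  refine ⟨?_, ?_⟩
  · rw [c ι]
    exact (TensorProduct.assoc A P M C₀).symm.injective.comp
      ((Module.Flat.lTensor_preserves_injective_linearMap _ h.1).comp (TensorProduct.assoc A P M K).injective)
  · refine Function.Exact.of_ladder_linearEquiv_of_exact (e₁ := (TensorProduct.assoc A P M K).symm)
      (e₂ := (TensorProduct.assoc A P M C₀).symm) (e₃ := (TensorProduct.assoc A P M C₁).symm) ?_ ?_
      (Module.Flat.lTensor_exact P h.2)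
    · rw [c ι]
      ext p m q
      simp
    · rw [c d]
      ext p m q
      simp

theorem Good.congr_left {K' : Type u} [AddCommMonoid K'] [Module A K'] (e : K' ≃ₗ[A] K) {M : Type u}
    [AddCommGroup M] [Module A M] (h : Good ι d M) : Good (ι ∘ₗ e.toLinearMap) d M := by
  rw [Good, lTensor_comp]
  exact ⟨h.1.comp (LinearEquiv.lTensor M e).injective,
    Function.Surjective.comp_exact_iff_exact (LinearEquiv.lTensor M e).surjective |>.2 h.2⟩

/-- A good algebra and a good module over it. -/
theorem Good.comp {B : Type u} [CommRing B] [Algebra A B] {N : Type u} [AddCommGroup N] [Module A N] [Module B N]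
    [IsScalarTower A B N] (h : Good (ι.baseChange B) (d.baseChange B) N) : Good ι d N := by
  let e : ∀ (Q : Type u) [AddCommMonoid Q] [Module A Q], N ⊗[B] (B ⊗[A] Q) ≃ₗ[A] N ⊗[A] Q := fun Q _ _ =>
    (AlgebraTensorModule.cancelBaseChange A B B N Q).restrictScalars A
  have c : ∀ {Q R : Type u} [AddCommMonoid Q] [Module A Q] [AddCommMonoid R] [Module A R] (g : Q →ₗ[A] R)
      (z : N ⊗[B] (B ⊗[A] Q)), g.lTensor N (e Q z) = e R ((g.baseChange B).lTensor N z) := by
    intro Q R _ _ _ _ g z
    induction z using TensorProduct.induction_on with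
    | zero => simp
    | tmul n w =>
      induction w using TensorProduct.induction_on with
      | zero => simp
      | tmul b q => simp [e]
      | add a b ha hb => simp only [TensorProduct.tmul_add, map_add, ha, hb]
    | add a b ha hb => simp only [map_add, ha, hb]
  refine ⟨fun x y hxy => ?_, fun z => ?_⟩
  · obtain ⟨x, rfl⟩ := (e K).surjective x
    obtain ⟨y, rfl⟩ := (e K).surjective y
    rw [c ι, c ι] at hxy
    exact congrArg _ (h.1 ((e C₀).injective hxy))
  · obtain ⟨z, rfl⟩ := (e C₀).surjective z
    rw [c d, map_eq_zero_iff _ (e C₁).injective, h.2 z]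
    constructor
    · rintro ⟨w, rfl⟩
      exact ⟨e K w, c ι w⟩
    · rintro ⟨w, hw⟩
      obtain ⟨w, rfl⟩ := (e K).surjective w
      exact ⟨w, (e C₀).injective ((c ι w).symm.trans hw)⟩

/-- The base change of the kernel is the kernel of the base change. -/
theorem Good.bijective_ker {B : Type u} [CommRing B] [Algebra A B] (h : Good ι d B) :
    ∃ e : B ⊗[A] K ≃ₗ[B] ker (d.baseChange B), ∀ z, (e z : B ⊗[A] C₀) = ι.baseChange B z := by
  have hc : ∀ z, ι.baseChange B z ∈ ker (d.baseChange B) := fun z => by
    have : d.lTensor B (ι.lTensor B z) = 0 := (h.2 _).2 ⟨z, rfl⟩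
    exact this
  refine ⟨LinearEquiv.ofBijective ((ι.baseChange B).codRestrict _ hc) ⟨fun x y hxy => ?_, fun z => ?_⟩,
    fun z => rfl⟩
  · exact h.1 (congrArg Subtype.val hxy)
  · obtain ⟨w, hw⟩ := (h.2 z.1).1 z.2
    exact ⟨w, Subtype.ext hw⟩

/-- Transitivity of goodness through an algebra. -/
theorem Good.trans {B : Type u} [CommRing B] [Algebra A B] (hB : Good ι d B) {N : Type u} [AddCommGroup N]
    [Module A N] [Module B N] [IsScalarTower A B N]
    (h : Good (ker (d.baseChange B)).subtype (d.baseChange B) N) : Good ι d N := by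
  obtain ⟨e, he⟩ := hB.bijective_ker
  refine Good.comp (B := B) ?_
  rw [show ι.baseChange B = (ker (d.baseChange B)).subtype ∘ₗ e.toLinearMap from LinearMap.ext fun z => (he z).symm]
  exact h.congr_left e

/-- Goodness passes to the base change when the middle one is good. -/
theorem Good.baseChange {B : Type u} [CommRing B] [Algebra A B] (hB : Good ι d B) {N : Type u} [AddCommGroup N]
    [Module A N] [Module B N] [IsScalarTower A B N] (h : Good ι d N) :
    Good (ker (d.baseChange B)).subtype (d.baseChange B) N := by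
  obtain ⟨e, he⟩ := hB.bijective_ker
  rw [show (ker (d.baseChange B)).subtype = ι.baseChange B ∘ₗ e.symm.toLinearMap from LinearMap.ext fun z => by
    rw [LinearMap.comp_apply, LinearEquiv.coe_coe, ← he, LinearEquiv.apply_symm_apply]; rfl]
  refine Good.congr_left e.symm ?_
  let ε : ∀ (Q : Type u) [AddCommMonoid Q] [Module A Q], N ⊗[B] (B ⊗[A] Q) ≃ₗ[A] N ⊗[A] Q := fun Q _ _ =>
    (AlgebraTensorModule.cancelBaseChange A B B N Q).restrictScalars A
  have c : ∀ {Q R : Type u} [AddCommMonoid Q] [Module A Q] [AddCommMonoid R] [Module A R] (g : Q →ₗ[A] R)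
      (z : N ⊗[B] (B ⊗[A] Q)), g.lTensor N (ε Q z) = ε R ((g.baseChange B).lTensor N z) := by
    intro Q R _ _ _ _ g z
    induction z using TensorProduct.induction_on with
    | zero => simp
    | tmul n w =>
      induction w using TensorProduct.induction_on with
      | zero => simp
      | tmul b q => simp [ε]
      | add a b ha hb => simp only [TensorProduct.tmul_add, map_add, ha, hb]
    | add a b ha hb => simp only [map_add, ha, hb]
  refine ⟨fun x y hxy => (ε K).injective (h.1 ?_), fun z => ?_⟩
  · rw [c ι, c ι, hxy]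
  · rw [← map_eq_zero_iff _ (ε C₁).injective, ← c d, h.2]
    constructor
    · rintro ⟨w, hw⟩
      obtain ⟨w, rfl⟩ := (ε K).surjective w
      exact ⟨w, (ε C₀).injective ((c ι w).symm.trans hw)⟩
    · rintro ⟨w, rfl⟩
      exact ⟨ε K w, c ι w⟩

end

section Complex

variable {B : Type u} [CommRing B] {C : ℕ → Type u} [∀ p, AddCommGroup (C p)] [∀ p, Module B (C p)]
  [∀ p, Module.Flat B (C p)] (d : ∀ p, C p →ₗ[B] C (p + 1))

/-- A complex of flat modules exact in positive degrees, universally so in high degrees. -/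
theorem good_of_exact (hcomp : ∀ p x, d (p + 1) (d p x) = 0) (hex : ∀ p, Function.Exact (d p) (d (p + 1))) (m : ℕ)
    (hbig : ∀ p, m ≤ p → ∀ (M : Type u) [AddCommGroup M] [Module B M],
      Function.Exact ((d p).lTensor M) ((d (p + 1)).lTensor M)) :
    Module.Flat B (ker (d 0)) ∧ (∀ (M : Type u) [AddCommGroup M] [Module B M], Good (ker (d 0)).subtype (d 0) M) ∧
      ∀ p (M : Type u) [AddCommGroup M] [Module B M], Function.Exact ((d p).lTensor M) ((d (p + 1)).lTensor M) := by
  let R : ∀ p, Submodule B (C (p + 1)) := fun p => range (d p)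
  have hlt : ∀ (p : ℕ) (M : Type u) [AddCommGroup M] [Module B M] (w : M ⊗[B] C p),
      (d p).lTensor M w = (R p).subtype.lTensor M ((d p).rangeRestrict.lTensor M w) := fun p M _ _ w => by
    rw [← LinearMap.comp_apply, ← lTensor_comp]
    rfl
  have flat_sub : ∀ {P : Type u} [AddCommGroup P] [Module B P] [Module.Flat B P] (Q : Submodule B P),
      (∀ (M : Type u) [AddCommGroup M] [Module B M], Function.Injective (Q.subtype.lTensor M)) →
      Module.Flat B Q := fun {P} _ _ _ Q hQ => by
    rw [Module.Flat.iff_rTensor_injective']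
    intro I
    have key : Function.Injective (Q.subtype.lTensor B ∘ₗ I.subtype.rTensor Q) := by
      have : Q.subtype.lTensor B ∘ₗ I.subtype.rTensor Q = I.subtype.rTensor P ∘ₗ Q.subtype.lTensor I := by
        rw [lTensor_comp_rTensor, rTensor_comp_lTensor]
      rw [this]
      exact (Module.Flat.iff_rTensor_injective'.1 inferInstance I).comp (hQ I)
    exact Function.Injective.of_comp key
  have hsurj : ∀ (p : ℕ) (M : Type u) [AddCommGroup M] [Module B M],
      Function.Surjective ((d p).rangeRestrict.lTensor M) := fun p M _ _ =>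
    lTensor_surjective M (d p).surjective_rangeRestrict
  have high : ∀ p, m + 1 ≤ p → ∀ (M : Type u) [AddCommGroup M] [Module B M],
      Function.Injective ((R p).subtype.lTensor M) := fun p hp M _ _ => by
    obtain ⟨q, rfl⟩ : ∃ q, p = q + 1 := ⟨p - 1, by omega⟩
    rw [← LinearMap.ker_eq_bot, eq_bot_iff]
    intro z hz
    obtain ⟨w, rfl⟩ := hsurj (q + 1) M z
    have hw : (d (q + 1)).lTensor M w = 0 := (hlt _ M w).trans hz
    obtain ⟨v, rfl⟩ := (hbig q (by omega) M w).1 hw
    have : (d (q + 1)).rangeRestrict ∘ₗ d q = 0 := LinearMap.ext fun x => Subtype.ext (hcomp q x)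
    rw [Submodule.mem_bot, ← LinearMap.comp_apply, ← lTensor_comp, this, lTensor_zero, LinearMap.zero_apply]
  have step : ∀ p, (∀ (M : Type u) [AddCommGroup M] [Module B M], Function.Injective ((R p).subtype.lTensor M)) →
      (∀ (M : Type u) [AddCommGroup M] [Module B M], Function.Injective ((ker (d p)).subtype.lTensor M) ∧
        Function.Exact ((ker (d p)).subtype.lTensor M) ((d p).lTensor M)) := fun p hp M _ _ => by
    haveI := flat_sub (R p) hp
    have hex : Function.Exact (ker (d p)).subtype (d p).rangeRestrict := fun x => by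
      rw [Subtype.ext_iff]
      exact ⟨fun h => ⟨⟨x, h⟩, rfl⟩, by rintro ⟨⟨y, hy⟩, rfl⟩; exact hy⟩
    refine ⟨LinearMap.lTensor_injective_of_exact_of_flat _ (d p).surjective_rangeRestrict _
      (ker (d p)).injective_subtype hex M, fun z => ?_⟩
    rw [hlt p M z, map_eq_zero_iff _ (hp M)]
    exact lTensor_exact M hex (d p).surjective_rangeRestrict z
  have down : ∀ k p, m + 1 ≤ p + k → ∀ (M : Type u) [AddCommGroup M] [Module B M],
      Function.Injective ((R p).subtype.lTensor M) := by
    intro k
    induction k with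
    | zero => exact fun p hp => high p (by omega)
    | succ k ih =>
      intro p hp M _ _
      have he : range (d p) = ker (d (p + 1)) := (LinearMap.exact_iff.1 (hex p)).symm
      have h1 := (step (p + 1) (ih (p + 1) (by omega)) M).1
      have : (R p).subtype = (ker (d (p + 1))).subtype ∘ₗ (LinearEquiv.ofEq (R p) _ he).toLinearMap := rfl
      rw [this, lTensor_comp]
      exact h1.comp (LinearEquiv.lTensor M (LinearEquiv.ofEq (R p) _ he)).injective
  refine ⟨flat_sub _ fun M _ _ => (step 0 (down (m + 1) 0 (by omega)) M).1,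
    fun M _ _ => step 0 (down (m + 1) 0 (by omega)) M, fun p M _ _ z => ?_⟩
  have h2 := (step (p + 1) (down (m + 1) (p + 1) (by omega)) M).2
  rw [h2 z]
  have he : range (d p) = ker (d (p + 1)) := (LinearMap.exact_iff.1 (hex p)).symm
  have hc : (ker (d (p + 1))).subtype ∘ₗ ((LinearEquiv.ofEq (R p) _ he).toLinearMap ∘ₗ (d p).rangeRestrict) = d p := rfl
  constructor
  · rintro ⟨w, rfl⟩
    obtain ⟨v, rfl⟩ := ((LinearEquiv.lTensor M (LinearEquiv.ofEq (R p) _ he)).surjective.comp (hsurj p M)) w
    refine ⟨v, ?_⟩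
    conv_lhs => rw [← hc, lTensor_comp, lTensor_comp]
    rfl
  · rintro ⟨v, rfl⟩
    refine ⟨((LinearEquiv.ofEq (R p) _ he).toLinearMap ∘ₗ (d p).rangeRestrict).lTensor M v, ?_⟩
    rw [← LinearMap.comp_apply, ← lTensor_comp, hc]

end Complex

end Groth.Agent.HilbFib
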