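import Groth.Agent.HilbFib.Affine
import Groth.Agent.OmegaTrdeg.Basic

/-!
Flatness over a Noetherian local domain from two Hilbert functions.
-/

set_option autoImplicit false
set_option backward.isDefEq.respectTransparency false
set_option backward.isDefEq.respectTransparency.types false
set_option linter.style.haveILetI false

universe u

open CategoryTheory CategoryTheory.Limits AlgebraicGeometry TopologicalSpace Opposite
open scoped TensorProduct

noncomputable section

namespace Groth.Agent.HilbFib

/-- The fibre rank of a finite module does not decrease under specialisation. -/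
theorem finrank_fibre_mono {A : Type u} [CommRing A] (M : Type u) [AddCommGroup M] [Module A M] [Module.Finite A M]
    {p q : PrimeSpectrum A} (h : p.asIdeal ≤ q.asIdeal) :
    Module.finrank p.asIdeal.ResidueField (p.asIdeal.ResidueField ⊗[A] M) ≤
      Module.finrank q.asIdeal.ResidueField (q.asIdeal.ResidueField ⊗[A] M) :=
  OmegaTrdeg.finrank_residueField_tensor_le M h

theorem isFlatOver_of_local {A : Type u} [CommRing A] [IsDomain A] [IsNoetherianRing A] [IsLocalRing A]
    {X : Scheme.{u}} {f : X ⟶ Spec (CommRingCat.of A)} [IsProper f] {L F : X.Modules}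
    (hL : RelAmple.IsRelAmple f L) (hF : Coh.IsCoh F)
    (h : ∀ n, hilb f L F (⊥ : PrimeSpectrum A) n = hilb f L F (IsLocalRing.closedPoint A) n) :
    FlatMod.IsFlatOver f F := by
  letI : X.Over (Spec (CommRingCat.of A)) := ⟨f⟩
  haveI : IsProper (X ↘ Spec (CommRingCat.of A)) := ‹IsProper f›
  haveI := hL.1
  have hLa : CohB1.IsAmple L := by
    have h1 := hL.2 ⟨⊤, isAffineOpen_top _⟩
    exact (TMul.isAmple_restrict_top_iff L).1 h1
  obtain ⟨N, hN⟩ := exists_rank A hLa hF
  obtain ⟨M, hM⟩ := exists_finLocFree A hLa hF fun N' => ⟨max N N', le_max_right _ _, fun n hn => by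
    refine IsLocallyConstant.of_constant _ fun s t => ?_
    obtain ⟨hfin, hrk⟩ := hN n ((le_max_left _ _).trans hn)
    haveI := hfin
    have key : ∀ s : Spec (CommRingCat.of A), hilb (X ↘ Spec (CommRingCat.of A)) L F s n =
        hilb (X ↘ Spec (CommRingCat.of A)) L F (⊥ : PrimeSpectrum A) n := fun s => by
      have h1 := finrank_fibre_mono (A := A) (M := ((CohIII.globalSectionsA A).obj
        (CohB1.tensorMod F (CohB1.tensorPow L n)) : Type u)) (p := (⊥ : PrimeSpectrum A)) (q := (s : PrimeSpectrum A)) bot_le
      have h2 := finrank_fibre_mono (A := A) (M := ((CohIII.globalSectionsA A).obj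
        (CohB1.tensorMod F (CohB1.tensorPow L n)) : Type u))
        (p := (s : PrimeSpectrum A)) (q := IsLocalRing.closedPoint A) (IsLocalRing.le_maximalIdeal s.isPrime.ne_top)
      have h3 := (hrk _).symm.trans ((h n).trans (hrk _))
      rw [hrk s, hrk]
      refine congrArg Nat.cast (le_antisymm ?_ h1)
      exact h2.trans (le_of_eq (Nat.cast_injective h3).symm)
    rw [key s, key t]⟩
  exact W7Hull.isFlatOver_of_push_twists f F L hF.1
    (fun y => ⟨⊤, isAffineOpen_top _, trivial, hL.2 ⟨⊤, isAffineOpen_top _⟩⟩) M hM

end Groth.Agent.HilbFib
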