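import Groth.Agent.HilbFib.Affine
import Groth.Agent.FlatModBC.Basic

/-!
Flatness of pullbacks of a module along morphisms to the base.
-/

set_option autoImplicit false
set_option backward.isDefEq.respectTransparency false
set_option backward.isDefEq.respectTransparency.types false
set_option linter.style.haveILetI false

universe u

open CategoryTheory CategoryTheory.Limits AlgebraicGeometry TopologicalSpace

noncomputable section

namespace Groth.Agent.HilbFib

variable {X S T T' : Scheme.{u}} (f : X ⟶ S) (F : X.Modules)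

/-- The pullback of `F` along `g` is flat over `T`. -/
def PFlat (g : T ⟶ S) : Prop :=
  FlatMod.IsFlatOver (pullback.snd f g) ((Scheme.Modules.pullback (pullback.fst f g)).obj F)

variable {f F}

theorem flat_of_pflat {P : Scheme.{u}} {g : T ⟶ S} {w : T' ⟶ T} {p : P ⟶ X} {q : P ⟶ T'}
    (sq : IsPullback p q f (w ≫ g)) (h : PFlat f F g) : FlatMod.IsFlatOver q ((Scheme.Modules.pullback p).obj F) := by
  let γ : P ⟶ pullback f g := pullback.lift p (q ≫ w) (by rw [Category.assoc]; exact sq.w)
  have h1 : IsPullback γ q (pullback.snd f g) w :=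
    IsPullback.of_right (by rw [pullback.lift_fst]; exact sq) (pullback.lift_snd _ _ _) (IsPullback.of_hasPullback f g)
  exact fun x => FlatLimMod.isFlatOverAt_of_iso _ ((ModDesc.trIso γ _ (pullback.lift_fst _ _ _)).app F)
    (FlatModBC.isFlatOverAt_baseChange h1 _ x (h _))

theorem PFlat.comp {g : T ⟶ S} (h : PFlat f F g) (w : T' ⟶ T) : PFlat f F (w ≫ g) :=
  flat_of_pflat (IsPullback.of_hasPullback f (w ≫ g)) h

theorem pflat_of_square {P : Scheme.{u}} {g : T ⟶ S} {p : P ⟶ X} {q : P ⟶ T} (sq : IsPullback p q f g)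
    (h : FlatMod.IsFlatOver q ((Scheme.Modules.pullback p).obj F)) : PFlat f F g := by
  let e := sq.isoPullback.symm
  have h1 : IsPullback e.hom (pullback.snd f g) q (𝟙 T) :=
    IsPullback.of_horiz_isIso ⟨by rw [Category.comp_id]; exact sq.isoPullback_inv_snd⟩
  exact fun x => FlatLimMod.isFlatOverAt_of_iso _ ((ModDesc.trIso e.hom _ sq.isoPullback_inv_fst).app F)
    (FlatModBC.isFlatOverAt_baseChange h1 _ x (h _))

theorem pflat_of_local (hF : Coh.IsQCoh F) {g : T ⟶ S}
    (h : ∀ t : T, ∃ (T' : Scheme.{u}) (j : T' ⟶ T) (_ : IsOpenImmersion j), t ∈ Set.range j ∧ PFlat f F (j ≫ g)) :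
    PFlat f F g := by
  intro x
  obtain ⟨T', j, hj, ht, hfl⟩ := h (pullback.snd f g x)
  haveI := hj
  let γ : pullback f (j ≫ g) ⟶ pullback f g :=
    pullback.lift (pullback.fst f (j ≫ g)) (pullback.snd f (j ≫ g) ≫ j)
      (by rw [Category.assoc]; exact pullback.condition)
  have h1 : IsPullback γ (pullback.snd f (j ≫ g)) (pullback.snd f g) j :=
    IsPullback.of_right (by rw [pullback.lift_fst]; exact IsPullback.of_hasPullback f (j ≫ g))
      (pullback.lift_snd _ _ _) (IsPullback.of_hasPullback f g)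
  haveI : IsOpenImmersion γ := MorphismProperty.of_isPullback (P := @IsOpenImmersion) h1.flip hj
  obtain ⟨t', ht'⟩ := ht
  obtain ⟨z, hz, -⟩ := Scheme.exists_preimage_of_isPullback h1 x t' ht'.symm
  rw [← hz]
  refine (S9350.result γ (pullback.snd f g) _ (QC.isQCoh_pullback _ hF) z
    (RingHom.Flat.of_bijective (ConcreteCategory.bijective_of_isIso _))).2 ?_
  rw [h1.w]
  exact isFlatOverAt_comp_openImmersion _ _ _ _ (FlatLimMod.isFlatOverAt_of_iso _
    ((ModDesc.trIso γ _ (pullback.lift_fst _ _ _)).app F).symm (hfl z))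

end Groth.Agent.HilbFib
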