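import Groth.Agent.HilbFib.Core
import Groth.Agent.W7Cech.FibreRank
import Groth.Agent.W7Cech.GlobSec
import Groth.Agent.DQCoh.PerfCrit
import Groth.Agent.S6266

/-!
Hilbert functions of fibres as fibre ranks of the direct images of large twists.
-/

set_option autoImplicit false
set_option backward.isDefEq.respectTransparency false
set_option backward.isDefEq.respectTransparency.types false
set_option linter.style.haveILetI false
set_option maxHeartbeats 1600000

universe u

open CategoryTheory CategoryTheory.Limits AlgebraicGeometry TopologicalSpace Opposite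
open Groth.Agent.SiteCoh
open scoped TensorProduct

noncomputable section

namespace Groth.Agent.HilbFib

variable (A : Type u) [CommRing A]

/-- A converse: vanishing from exactness. -/
theorem subsingleton_of_exact_lTensor (C : CochainComplex (ModuleCat.{u} A) ℕ) (p : ℕ) (M : ModuleCat.{u} A)
    (h : Function.Exact ((dd C p).lTensor (M : Type u)) ((dd C (p + 1)).lTensor (M : Type u))) :
    Subsingleton (CohIII.T C (p + 1) M) := by
  have h' : Function.Exact ((dd C p).rTensor (M : Type u)) ((dd C (p + 1)).rTensor (M : Type u)) := by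
    intro z
    obtain ⟨z, rfl⟩ := (TensorProduct.comm A (M : Type u) _).surjective z
    rw [rTensor_comm, map_eq_zero_iff _ (TensorProduct.comm A (M : Type u) _).injective, h]
    constructor
    · rintro ⟨w, rfl⟩
      exact ⟨TensorProduct.comm A (M : Type u) _ w, rTensor_comm _ _ w⟩
    · rintro ⟨w, hw⟩
      obtain ⟨w, rfl⟩ := (TensorProduct.comm A (M : Type u) _).surjective w
      exact ⟨w, (TensorProduct.comm A (M : Type u) _).injective ((rTensor_comm _ _ w).symm.trans hw)⟩
  refine ModuleCat.subsingleton_of_isZero (((CohIII.tensorObj C M).exactAt_iff_isZero_homology _).1 ?_)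
  rw [HomologicalComplex.exactAt_iff' _ p (p + 1) (p + 1 + 1) (by simp) (by simp),
    ShortComplex.moduleCat_exact_iff_range_eq_ker]
  exact (LinearMap.exact_iff.1 h').symm

/-- The degree zero part of a good module. -/
theorem nonempty_T_equiv_tensor (C : CochainComplex (ModuleCat.{u} A) ℕ) (M : ModuleCat.{u} A)
    (h : Good (LinearMap.ker (dd C 0)).subtype (dd C 0) (M : Type u)) :
    Nonempty ((CohIII.T C 0 M : Type u) ≃ₗ[A] (M : Type u) ⊗[A] LinearMap.ker (dd C 0)) := by
  let c := TensorProduct.comm A (M : Type u) (C.X 0 : Type u)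
  let φ : (M : Type u) ⊗[A] LinearMap.ker (dd C 0) →ₗ[A] (C.X 0 : Type u) ⊗[A] (M : Type u) :=
    c.toLinearMap ∘ₗ (LinearMap.ker (dd C 0)).subtype.lTensor (M : Type u)
  have hmem : ∀ x, ∃ y, φ y = zeroMap C M x := fun x => by
    obtain ⟨y, hy⟩ := (h.2 (c.symm (zeroMap C M x))).1 ((TensorProduct.comm A (M : Type u) _).injective (by
      rw [← rTensor_comm, LinearEquiv.apply_symm_apply, rTensor_zeroMap, map_zero]))
    exact ⟨y, by change c _ = _; rw [hy, LinearEquiv.apply_symm_apply]⟩
  have hinj : Function.Injective φ := c.injective.comp h.1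
  let ψ : (CohIII.T C 0 M : Type u) →ₗ[A] LinearMap.range φ :=
    (zeroMap C M).codRestrict _ fun x => LinearMap.mem_range.2 (hmem x)
  refine ⟨(LinearEquiv.ofBijective ψ ⟨fun x y hxy => zeroMap_injective C M (congrArg Subtype.val hxy), ?_⟩).trans
    (LinearEquiv.ofInjective φ hinj).symm⟩
  rintro ⟨_, y, rfl⟩
  obtain ⟨x, hx⟩ := zeroMap_range C M (φ y) (by
    change (dd C 0).rTensor (M : Type u) (c _) = 0
    rw [rTensor_comm, (h.2 _).2 ⟨y, rfl⟩, map_zero])
  exact ⟨x, Subtype.ext hx⟩

variable [IsNoetherianRing A] {X : Scheme.{u}} [X.Over (Spec (CommRingCat.of A))]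
  [IsProper (X ↘ Spec (CommRingCat.of A))] {L F : X.Modules} (hL : CohB1.IsAmple L) (hF : Coh.IsCoh F)

include hL hF in
/-- Hilbert functions of fibres are fibre ranks of the sections of large twists. -/
theorem exists_rank : ∃ N : ℕ, ∀ n, N ≤ n →
    Module.Finite A ((CohIII.globalSectionsA A).obj (CohB1.tensorMod F (CohB1.tensorPow L n)) : Type u) ∧
    ∀ s : Spec (CommRingCat.of A), hilb (X ↘ Spec (CommRingCat.of A)) L F s n =
      (Module.finrank (s : PrimeSpectrum A).asIdeal.ResidueField ((s : PrimeSpectrum A).asIdeal.ResidueField ⊗[A]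
        ((CohIII.globalSectionsA A).obj (CohB1.tensorMod F (CohB1.tensorPow L n)) : Type u)) : ℤ) := by
  let f := X ↘ Spec (CommRingCat.of A)
  haveI : CompactSpace X := QuasiCompact.compactSpace_of_compactSpace f
  haveI : X.IsSeparated := by
    constructor
    rw [← terminal.comp_from f]
    infer_instance
  obtain ⟨ι, hι, U, hU, hcov⟩ := W7Cech.exists_cover X
  haveI := hι
  obtain ⟨N, hN⟩ := exists_core A U hU hcov hL hF
  haveI : IsLocallyNoetherian X := LocallyOfFiniteType.isLocallyNoetherian f
  refine ⟨N, fun n hn => ?_⟩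
  let G := CohB1.tensorMod F (CohB1.tensorPow L n)
  have hG : Coh.IsCoh G := CohFinite.isCoh_tensor hF (TMul.isInvertible_tensorPow hL.1 n)
  let C := twistCx A U L F n
  let K := LinearMap.ker (dd C 0)
  obtain ⟨e₀⟩ := nonempty_T_equiv_ker C
  obtain ⟨eT, -⟩ := W7Cech.exists_hhEquiv A U hU hcov 0
  let eK : ((CohIII.globalSectionsA A).obj G : Type u) ≃ₗ[A] K :=
    ((W7Cech.gsH0L A G).trans (eT G hG.1).symm).trans
      ((HomologicalComplex.homologyMapIso (W7Cech.ridIso A C) 0).toLinearEquiv.symm.trans e₀)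
  haveI := CohFinite.finite_proper A X G hG 0
  refine ⟨Module.Finite.equiv (W7Cech.gsH0L A G).symm, fun s => ?_⟩
  let k := (Spec (CommRingCat.of A)).residueField s
  letI : Algebra A k := (W7Cech.resMap A s).hom.toAlgebra
  letI : (f.fiber s).Over (Spec (CommRingCat.of ↥k)) := ⟨f.fiberToSpecResidueField s⟩
  have sq : IsPullback (f.fiberι s) (f.fiberToSpecResidueField s) f (Spec.map (W7Cech.resMap A s)) := by
    rw [W7Cech.SpecMap_resMap]
    exact IsPullback.of_hasPullback f _
  obtain ⟨hgood, hexact⟩ := hN n hn k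
  have hi := fun p => W7Cech.nonempty_hh_bc_lin A k U hU hcov (f.fiberι s) sq G hG.1 p
  have hhigh : ∀ p, PerfAux.betti f G s (p + 1) = 0 := fun p => by
    haveI := subsingleton_of_exact_lTensor A C p (ModuleCat.of A k) (hexact p)
    obtain ⟨i⟩ := hi (p + 1)
    haveI : Subsingleton (Coh.HH (f.fiber s) ((Scheme.Modules.pullback (f.fiberι s)).obj G) (p + 1)) :=
      i.toLinearEquiv.injective.subsingleton
    exact Module.finrank_zero_of_subsingleton
  have hsum : hilb f L F s n = (PerfAux.betti f G s 0 : ℤ) := by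
    refine (finsum_eq_single _ 0 fun p hp => ?_).trans (by simp [G])
    obtain ⟨q, rfl⟩ := Nat.exists_eq_succ_of_ne_zero hp
    rw [hhigh q]
    simp
  rw [hsum]
  congr 1
  obtain ⟨σ, hσ⟩ := W7Cech.exists_residueField_equiv (k := k) (W7Cech.resMap_frac A s) s (W7Cech.resMap_ker A s)
  obtain ⟨i⟩ := hi 0
  obtain ⟨t⟩ := nonempty_T_equiv_tensor A C (ModuleCat.of A k) hgood
  let σA : (k : Type u) ≃ₗ[A] (s : PrimeSpectrum A).asIdeal.ResidueField :=
    σ.toAddEquiv.toLinearEquiv fun a b => by
      change σ (a • b) = a • σ b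
      rw [Algebra.smul_def, map_mul, hσ, ← Algebra.smul_def]
  let e := i.toLinearEquiv.trans (t.trans (TensorProduct.congr σA eK.symm))
  exact W7Cech.finrank_eq_of_linear (A := A) k _ (W7Cech.resMap_frac A s) σ hσ _ _ e.toAddEquiv
    fun a v => (e.map_smul a v).trans (algebraMap_smul _ a (e v)).symm

include hL hF in
/-- Large twists have locally free direct image over a reduced base when their Hilbert functions are constant
near each point. -/
theorem exists_finLocFree [IsReduced A]
    (hc : ∀ N : ℕ, ∃ M, N ≤ M ∧ ∀ n, M ≤ n → IsLocallyConstant fun s : Spec (CommRingCat.of A) =>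
      hilb (X ↘ Spec (CommRingCat.of A)) L F s n) :
    ∃ N : ℕ, ∀ n, N ≤ n → FlatMod.IsFinLocFree
      ((Coh.push (X ↘ Spec (CommRingCat.of A))).obj (CohB1.tensorMod F (CohB1.tensorPow L n))) := by
  obtain ⟨N, hN⟩ := exists_rank A hL hF
  obtain ⟨M, hNM, hM⟩ := hc N
  refine ⟨M, fun n hn => ?_⟩
  obtain ⟨hfin, hrk⟩ := hN n (hNM.trans hn)
  let P := (CohIII.globalSectionsA A).obj (CohB1.tensorMod F (CohB1.tensorPow L n))
  have hlc : IsLocallyConstant fun p : PrimeSpectrum A =>
      Module.finrank p.asIdeal.ResidueField (p.asIdeal.ResidueField ⊗[A] (P : Type u)) := by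
    refine cast (congrArg IsLocallyConstant (funext fun p : Spec (CommRingCat.of A) => ?_))
      ((hM n hn).comp Int.toNat)
    exact (congrArg Int.toNat (hrk p)).trans (Int.toNat_natCast _)
  have hproj := (S6266.result A (P : Type u)).2 ⟨hfin, hlc⟩
  haveI : (CohB1.tensorMod F (CohB1.tensorPow L n)).IsQuasicoherent :=
    TMul.isQCoh_tensor (TMul.isInvertible_tensorPow hL.1 n) (hF := hF.1)
  haveI := QC.isQCoh_pushforward (M := CohB1.tensorMod F (CohB1.tensorPow L n)) (X ↘ Spec (CommRingCat.of A))
  exact DQCoh.isFinLocFree_of_iso' (QC.isoTildeΓ (R := CommRingCat.of A) _)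
    (DQCoh.isFinLocFree_tilde (A := CommRingCat.of A) P hproj)

end Groth.Agent.HilbFib
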