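import Groth.Agent.HilbFib.Rank
import Groth.Agent.HilbFib.FlatTarget
import Groth.Agent.HilbFib.PullFlat

/-!
The stratum of a Hilbert polynomial over a Noetherian affine base.
-/

set_option autoImplicit false
set_option backward.isDefEq.respectTransparency false
set_option backward.isDefEq.respectTransparency.types false
set_option linter.style.haveILetI false
set_option maxHeartbeats 1600000

universe u

open CategoryTheory CategoryTheory.Limits AlgebraicGeometry TopologicalSpace Opposite
open Groth.Agent.SiteCoh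
open scoped TensorProduct

noncomputable section

namespace Groth.Agent.HilbFib

variable (A : Type u) [CommRing A] [IsNoetherianRing A] {X : Scheme.{u}} [X.Over (Spec (CommRingCat.of A))]
  [IsProper (X ↘ Spec (CommRingCat.of A))] {ι : Type u} [Finite ι] (U : ι → X.Opens)
  (hU : ∀ (n : ℕ) (a : Fin (n + 1) → ι), IsAffineOpen (tupleProd U a)) (hcov : iSup U = ⊤)

/-- The sections of a twist as a kernel. -/
abbrev twistKer (L F : X.Modules) (n : ℕ) : Submodule A ((twistCx A U L F n).X 0 : Type u) :=
  LinearMap.ker (dd (twistCx A U L F n) 0)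

variable {L F : X.Modules} (hL : CohB1.IsAmple L) (hF : Coh.IsCoh F)

include hU hcov hL hF in
theorem exists_setup : ∃ N : ℕ, ∀ n, N ≤ n → Module.FinitePresentation A (twistKer A U L F n) ∧
    (∀ (κ : Type u) [Field κ] [Algebra A κ],
      Good (twistKer A U L F n).subtype (dd (twistCx A U L F n) 0) κ) ∧
    ∀ s : Spec (CommRingCat.of A), hilb (X ↘ Spec (CommRingCat.of A)) L F s n =
      (Module.finrank (s : PrimeSpectrum A).asIdeal.ResidueField
        ((s : PrimeSpectrum A).asIdeal.ResidueField ⊗[A] twistKer A U L F n) : ℤ) := by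
  haveI : IsLocallyNoetherian X := LocallyOfFiniteType.isLocallyNoetherian (X ↘ Spec (CommRingCat.of A))
  obtain ⟨N₁, h₁⟩ := exists_core A U hU hcov hL hF
  obtain ⟨N₂, h₂⟩ := exists_rank A hL hF
  refine ⟨max N₁ N₂, fun n hn => ?_⟩
  obtain ⟨hfin, hrk⟩ := h₂ n ((le_max_right _ _).trans hn)
  let G := CohB1.tensorMod F (CohB1.tensorPow L n)
  have hG : Coh.IsQCoh G := TMul.isQCoh_tensor (TMul.isInvertible_tensorPow hL.1 n) (hF := hF.1)
  obtain ⟨e₀⟩ := nonempty_T_equiv_ker (twistCx A U L F n)
  obtain ⟨eT, -⟩ := W7Cech.exists_hhEquiv A U hU hcov 0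
  let eK : ((CohIII.globalSectionsA A).obj G : Type u) ≃ₗ[A] twistKer A U L F n :=
    ((W7Cech.gsH0L A G).trans (eT G hG).symm).trans
      ((HomologicalComplex.homologyMapIso (W7Cech.ridIso A (twistCx A U L F n)) 0).toLinearEquiv.symm.trans e₀)
  haveI := hfin
  haveI : Module.Finite A (twistKer A U L F n) := Module.Finite.equiv eK
  refine ⟨Module.finitePresentation_of_finite A _, fun κ _ _ => (h₁ n ((le_max_left _ _).trans hn) κ).1,
    fun s => (hrk s).trans ?_⟩
  exact_mod_cast (TensorProduct.AlgebraTensorModule.congr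
    (LinearEquiv.refl (s : PrimeSpectrum A).asIdeal.ResidueField (s : PrimeSpectrum A).asIdeal.ResidueField) eK).finrank_eq

variable (Φ : ℕ → ℚ)

/-- The points with the prescribed Hilbert function. -/
def stratumSet (L F : X.Modules) : Set (Spec (CommRingCat.of A)) :=
  {s | ∀ n, (hilb (X ↘ Spec (CommRingCat.of A)) L F s n : ℚ) = Φ n}

variable {A} {Φ}

include hU hF hL in
/-- Flat pullbacks satisfy the closed condition. -/
theorem low_map_eq_bot {n r : ℕ} [Module.FinitePresentation A (twistKer A U L F n)]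
    (hgood : ∀ (κ : Type u) [Field κ] [Algebra A κ],
      Good (twistKer A U L F n).subtype (dd (twistCx A U L F n) 0) κ)
    {B : CommRingCat.{u}} (φ : CommRingCat.of A ⟶ B)
    (hfl : PFlat (X ↘ Spec (CommRingCat.of A)) F (Spec.map φ))
    (hr : ∀ q : Spec B, Module.finrank ((Spec.map φ q : Spec (CommRingCat.of A)) : PrimeSpectrum A).asIdeal.ResidueField
      (((Spec.map φ q : Spec (CommRingCat.of A)) : PrimeSpectrum A).asIdeal.ResidueField ⊗[A] twistKer A U L F n) = r) :
    (W7Strat.low (A := A) (twistKer A U L F n) r).map φ.hom = ⊥ := by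
  letI : Algebra A B := φ.hom.toAlgebra
  let T := CohB1.tensorPow L n
  have hT : PicF.IsInvertible T := TMul.isInvertible_tensorPow hL.1 n
  haveI : Coh.IsQCoh (CohB1.tensorMod F T) := TMul.isQCoh_tensor hT (hF := hF.1)
  let g : Spec (CommRingCat.of B) ⟶ Spec (CommRingCat.of A) := Spec.map φ
  obtain ⟨j⟩ := TMul.nonempty_pullTensorIso (pullback.fst (X ↘ Spec (CommRingCat.of A)) g) F T
  have hfl₁ : FlatMod.IsFlatOver (pullback.snd (X ↘ Spec (CommRingCat.of A)) g)
      ((Scheme.Modules.pullback (pullback.fst (X ↘ Spec (CommRingCat.of A)) g)).obj (CohB1.tensorMod F T)) := fun z =>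
    FlatLimMod.isFlatOverAt_of_iso _ j (W7Cech.isFlatOver_tensor_invertible _ (QC.isQCoh_pullback _ hF.1) hfl
      (PicLoc.isInvertible_pullback _ hT) z)
  haveI : Module.Flat B (B ⊗[A] ((twistCx A U L F n).X 0 : Type u)) := by
    classical
    haveI : Fintype (Fin (0 + 1) → ι) := Fintype.ofFinite _
    haveI : ∀ b : Fin (0 + 1) → ι, Module.Flat B (B ⊗[A]
        ((W7Cech.secA A (tupleProd U b)).obj (CohB1.tensorMod F T) : Type u)) := fun b =>
      flat_bc_secA A (B := B) (CohB1.tensorMod F T) (hU 0 b) g hfl₁ fun x => by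
        have h := congr($(Scheme.ΓSpecIso_inv_naturality φ).hom x)
        simp only [CommRingCat.hom_comp, RingHom.comp_apply] at h
        rw [Scheme.Hom.appLE, CommRingCat.hom_comp, RingHom.comp_apply]
        change ((Spec (CommRingCat.of B)).presheaf.map (homOfLE _).op).hom
          ((Spec.map φ).appTop.hom ((Scheme.ΓSpecIso (CommRingCat.of A)).inv.hom x)) = _
        rw [← h]
        erw [Subsingleton.elim (homOfLE (le_top : (⊤ : (Spec (CommRingCat.of B)).Opens) ≤ ⊤)) (𝟙 _)]
        simp
        rfl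
    haveI := W7Cech.flat_pi B fun b : Fin (0 + 1) → ι => (B ⊗[A]
        ((W7Cech.secA A (tupleProd U b)).obj (CohB1.tensorMod F T) : Type u) : Type u)
    exact Module.Flat.of_linearEquiv (TensorProduct.piRight A B B fun b : Fin (0 + 1) → ι =>
      ((W7Cech.secA A (tupleProd U b)).obj (CohB1.tensorMod F T) : Type u))
  have h := good_baseChange_of_fibres (twistKer A U L F n).subtype B r (fun κ _ _ => (hgood κ).1) fun q => hr q
  exact ((W7Strat.good_baseChange_iff B).1 h).1

omit [IsNoetherianRing A] [IsProper (X ↘ Spec (CommRingCat.of A))] in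
/-- Linearity over a localisation of a quotient. -/
theorem map_smul_of_loc {J : Ideal A} {h : A} {M N : Type u} [AddCommGroup M] [Module A M]
    [Module (StratRing J h) M] [IsScalarTower A (StratRing J h) M] [AddCommGroup N] [Module A N]
    [Module (StratRing J h) N] [IsScalarTower A (StratRing J h) N] (e : M →ₗ[A] N) (b : StratRing J h) (x : M) :
    e (b • x) = b • e x := by
  obtain ⟨⟨c, s⟩, hb⟩ := IsLocalization.surj (Submonoid.powers (Ideal.Quotient.mk J h)) b
  obtain ⟨a, rfl⟩ := Ideal.Quotient.mk_surjective c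
  obtain ⟨t, ht⟩ := Ideal.Quotient.mk_surjective (s : A ⧸ J)
  have hu : IsUnit (algebraMap A (StratRing J h) t) := by
    rw [IsScalarTower.algebraMap_apply A (A ⧸ J) (StratRing J h), Ideal.Quotient.algebraMap_eq, ht]
    exact IsLocalization.map_units (StratRing J h) s
  have hba : algebraMap A (StratRing J h) t * b = algebraMap A (StratRing J h) a := by
    rw [mul_comm, IsScalarTower.algebraMap_apply A (A ⧸ J) (StratRing J h),
      IsScalarTower.algebraMap_apply A (A ⧸ J) (StratRing J h) a, Ideal.Quotient.algebraMap_eq, ht]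
    exact hb
  refine hu.smul_left_cancel.1 ?_
  rw [smul_smul, hba, algebraMap_smul, algebraMap_smul, ← map_smul, ← map_smul, ← algebraMap_smul (StratRing J h) t,
    smul_smul, hba, algebraMap_smul]

include hU hcov hL hF in
/-- Flatness on a basic piece of the stratum. -/
theorem pflat_piece {N : ℕ} (r : ℕ → ℕ)
    (hN : ∀ n, N ≤ n → Module.FinitePresentation A (twistKer A U L F n) ∧
      ∀ s : Spec (CommRingCat.of A), hilb (X ↘ Spec (CommRingCat.of A)) L F s n =
        (Module.finrank (s : PrimeSpectrum A).asIdeal.ResidueField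
          ((s : PrimeSpectrum A).asIdeal.ResidueField ⊗[A] twistKer A U L F n) : ℤ))
    (J : Ideal A) (h : A) (hJ : ∀ n, N ≤ n → W7Strat.low (A := A) (twistKer A U L F n) (r n) ≤ J)
    (hpts : ∀ s : Spec (CommRingCat.of A), J ≤ (s : PrimeSpectrum A).asIdeal → h ∉ (s : PrimeSpectrum A).asIdeal →
      ∀ n, N ≤ n → hilb (X ↘ Spec (CommRingCat.of A)) L F s n = r n) :
    PFlat (X ↘ Spec (CommRingCat.of A)) F (Spec.map (CommRingCat.ofHom (algebraMap A (StratRing J h)))) := by
  let B : Type u := StratRing J h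
  let f := X ↘ Spec (CommRingCat.of A)
  let g : Spec (CommRingCat.of B) ⟶ Spec (CommRingCat.of A) := Spec.map (CommRingCat.ofHom (algebraMap A B))
  let P := pullback f g
  letI : P.Over (Spec (CommRingCat.of B)) := ⟨pullback.snd f g⟩
  haveI : IsProper (P ↘ Spec (CommRingCat.of B)) := inferInstanceAs (IsProper (pullback.snd f g))
  haveI : IsAffineHom g := inferInstance
  haveI : IsAffineHom (pullback.fst f g) := MorphismProperty.pullback_fst (P := @IsAffineHom) f g inferInstance
  have hLB : CohB1.IsAmple ((Scheme.Modules.pullback (pullback.fst f g)).obj L) :=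
    TMul.isAmple_pullback_of_isAffineHom _ hL
  obtain ⟨N₁, hN₁⟩ := eventually_quotient A U hU hcov hL hF J
  refine W7Hull.isFlatOver_of_push_twists (pullback.snd f g) _ ((Scheme.Modules.pullback (pullback.fst f g)).obj L)
    (QC.isQCoh_pullback _ hF.1) (fun y => ⟨⊤, isAffineOpen_top _, trivial, (TMul.isAmple_restrict_top_iff _).2 hLB⟩)
    (max N N₁) fun n hn => ?_
  obtain ⟨hfp, hrk⟩ := hN n ((le_max_left _ _).trans hn)
  haveI := hfp
  obtain ⟨hG, -⟩ := hN₁ n ((le_max_right _ _).trans hn)
  haveI : Module.Flat (A ⧸ J) B := IsLocalization.flat B (Submonoid.powers (Ideal.Quotient.mk J h))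
  have hB : Good (twistKer A U L F n).subtype (dd (twistCx A U L F n) 0) B := hG.trans (good_of_flat _ B)
  have hgood : W7Strat.Good (A := B) (B ⊗[A] twistKer A U L F n) (r n) := by
    rw [W7Strat.good_baseChange_iff]
    refine ⟨?_, ?_⟩
    · rw [eq_bot_iff, Ideal.map_le_iff_le_comap]
      intro x hx
      change algebraMap A B x = 0
      rw [IsScalarTower.algebraMap_apply A (A ⧸ J) B, Ideal.Quotient.algebraMap_eq,
        Ideal.Quotient.eq_zero_iff_mem.2 (hJ n ((le_max_left _ _).trans hn) hx), map_zero]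
    · by_contra hne
      obtain ⟨q, hq, hle⟩ := Ideal.exists_le_maximal _ hne
      rw [Ideal.map_le_iff_le_comap] at hle
      let s : Spec (CommRingCat.of A) := (⟨q.comap (algebraMap A B), inferInstance⟩ : PrimeSpectrum A)
      refine (Fitting.not_le_iff_finrank (p := q.comap (algebraMap A B)) (k := r n)).2 ?_ hle
      have h1 := hpts s (fun x hx => by
          change algebraMap A B x ∈ q
          rw [IsScalarTower.algebraMap_apply A (A ⧸ J) B, Ideal.Quotient.algebraMap_eq,
            Ideal.Quotient.eq_zero_iff_mem.2 hx, map_zero]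
          exact q.zero_mem) (fun hh => hq.ne_top (Ideal.eq_top_of_isUnit_mem q (show algebraMap A B h ∈ q from hh) (by
          rw [IsScalarTower.algebraMap_apply A (A ⧸ J) B]
          exact IsLocalization.Away.algebraMap_isUnit (Ideal.Quotient.mk J h)))) n ((le_max_left _ _).trans hn)
      rw [hrk s] at h1
      exact le_of_eq (Nat.cast_injective h1)
  let T := CohB1.tensorPow L n
  have hT : PicF.IsInvertible T := TMul.isInvertible_tensorPow hL.1 n
  have hqG : Coh.IsQCoh (CohB1.tensorMod F T) := TMul.isQCoh_tensor hT (hF := hF.1)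
  let G' := (Scheme.Modules.pullback (pullback.fst f g)).obj (CohB1.tensorMod F T)
  have hqG' : Coh.IsQCoh G' := QC.isQCoh_pullback _ hqG
  obtain ⟨i⟩ := W7Cech.nonempty_hh_bc_lin A B U hU hcov (pullback.fst f g) (IsPullback.of_hasPullback f g)
    (CohB1.tensorMod F T) hqG 0
  obtain ⟨t⟩ := nonempty_T_equiv_tensor A (twistCx A U L F n) (ModuleCat.of A B) hB
  letI : Module A (Coh.HH P G' 0) := Module.compHom _ (algebraMap A B)
  haveI : IsScalarTower A B (Coh.HH P G' 0) := IsScalarTower.of_algebraMap_smul fun _ _ => rfl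
  let e₀ : Coh.HH P G' 0 ≃ₗ[A] B ⊗[A] twistKer A U L F n := i.toLinearEquiv.trans t
  let eB : Coh.HH P G' 0 ≃ₗ[B] B ⊗[A] twistKer A U L F n :=
    e₀.toAddEquiv.toLinearEquiv fun b x => map_smul_of_loc e₀.toLinearMap b x
  let M := (CohIII.globalSectionsA B).obj G'
  let eM : (M : Type u) ≃ₗ[B] B ⊗[A] twistKer A U L F n := (W7Cech.gsH0L B G').trans eB
  have hproj : Module.Finite B (M : Type u) ∧ Module.Projective B (M : Type u) := by
    haveI := hgood.1
    exact ⟨Module.Finite.equiv eM.symm, Module.Projective.of_equiv eM.symm⟩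
  haveI : G'.IsQuasicoherent := hqG'
  haveI : Coh.IsQCoh ((Coh.push (pullback.snd f g)).obj G') := QC.isQCoh_pushforward (M := G') (pullback.snd f g)
  haveI : ((Coh.push (pullback.snd f g)).obj G').IsQuasicoherent := ‹Coh.IsQCoh ((Coh.push (pullback.snd f g)).obj G')›
  have hfree : FlatMod.IsFinLocFree ((Coh.push (pullback.snd f g)).obj G') :=
    DQCoh.isFinLocFree_of_iso' (QC.isoTildeΓ (R := CommRingCat.of B) _)
      (DQCoh.isFinLocFree_tilde (A := CommRingCat.of B) M hproj)
  obtain ⟨a⟩ := TMul.nonempty_pullPowIso (pullback.fst f g) L n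
  obtain ⟨b⟩ := TMul.nonempty_pullTensorIso (pullback.fst f g) F T
  exact DQCoh.isFinLocFree_of_iso' ((Coh.push (pullback.snd f g)).mapIso (PicGrp.tensorModIso (Iso.refl _) a ≪≫ b).symm) hfree

end Groth.Agent.HilbFib
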