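import Groth.Agent.HilbFib.Stratum

/-!
The stratum of a Hilbert function as a subscheme, over a Noetherian affine base.
-/

set_option autoImplicit false
set_option backward.isDefEq.respectTransparency false
set_option backward.isDefEq.respectTransparency.types false
set_option linter.style.haveILetI false
set_option maxHeartbeats 1600000

universe u

open CategoryTheory CategoryTheory.Limits AlgebraicGeometry TopologicalSpace Opposite
open scoped TensorProduct

noncomputable section

namespace Groth.Agent.HilbFib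

/-- Vanishing of a global function is local. -/
theorem section_eq_zero_of_affine {T : Scheme.{u}} (y : Γ(T, ⊤))
    (h : ∀ (V : T.Opens), IsAffineOpen V → (T.presheaf.map (homOfLE (le_top : V ≤ ⊤)).op).hom y = 0) : y = 0 := by
  choose V hV hxV hle using fun x : T => exists_isAffineOpen_mem_and_subset (X := T) (x := x) (U := ⊤) trivial
  refine T.sheaf.eq_of_locally_eq' V ⊤ (fun x => homOfLE le_top) (fun x _ => Opens.mem_iSup.2 ⟨x, hxV x⟩) y 0 fun x => ?_
  rw [map_zero]
  exact h (V x) (hV x)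

/-- The stratum of a Hilbert function. -/
theorem exists_stratum_noetherian {A : Type u} [CommRing A] [IsNoetherianRing A] {X : Scheme.{u}}
    (f : X ⟶ Spec (CommRingCat.of A)) [IsProper f] {L F : X.Modules} (hL : CohB1.IsAmple L) (hF : Coh.IsCoh F)
    (Φ : ℕ → ℚ) :
    ∃ (W : Scheme.{u}) (i : W ⟶ Spec (CommRingCat.of A)), IsImmersion i ∧ LocallyOfFinitePresentation i ∧
      QuasiCompact i ∧ Set.range i = {s : Spec (CommRingCat.of A) | ∀ n, (hilb f L F s n : ℚ) = Φ n} ∧
      ∀ (T : Scheme.{u}) (g : T ⟶ Spec (CommRingCat.of A)), (∃ h : T ⟶ W, h ≫ i = g) ↔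
        (PFlat f F g ∧ ∀ t, ∀ n, (hilb f L F (g t) n : ℚ) = Φ n) := by
  classical
  letI : X.Over (Spec (CommRingCat.of A)) := ⟨f⟩
  haveI : IsProper (X ↘ Spec (CommRingCat.of A)) := ‹IsProper f›
  haveI : CompactSpace X := QuasiCompact.compactSpace_of_compactSpace f
  haveI : X.IsSeparated := by
    constructor
    rw [← terminal.comp_from f]
    infer_instance
  haveI : IsLocallyNoetherian X := LocallyOfFiniteType.isLocallyNoetherian f
  have hfp : CohB1.IsFP F := haveI := hF.1; QC.isFP_of_isQCoh_of_isFT hF.2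
  obtain ⟨ι, hι, U, hU, hcov⟩ := W7Cech.exists_cover X
  haveI := hι
  obtain ⟨N, hN⟩ := exists_setup A U hU hcov hL hF
  let r : ℕ → ℕ := fun n => (Φ n).num.toNat
  let rk : Spec (CommRingCat.of A) → ℕ → ℕ := fun s n =>
    Module.finrank (s : PrimeSpectrum A).asIdeal.ResidueField
      ((s : PrimeSpectrum A).asIdeal.ResidueField ⊗[A] twistKer A U L F n)
  have hhk : ∀ n, N ≤ n → ∀ s, hilb f L F s n = (rk s n : ℤ) := fun n hn s => (hN n hn).2.2 s
  let S₀ : Set (Spec (CommRingCat.of A)) := {s | ∀ n, (hilb f L F s n : ℚ) = Φ n}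
  have hS : ∀ s ∈ S₀, ∀ n, N ≤ n → rk s n = r n := fun s hs n hn => by
    have h1 := hs n
    rw [hhk n hn s, Int.cast_natCast] at h1
    simp only [r, ← h1]
    simp
  let I : Ideal A := ⨆ n : ℕ, ⨆ (_ : N ≤ n), W7Strat.low (A := A) (twistKer A U L F n) (r n)
  have hIle : ∀ n, N ≤ n → W7Strat.low (A := A) (twistKer A U L F n) (r n) ≤ I := fun n hn =>
    le_iSup₂ (f := fun n (_ : N ≤ n) => W7Strat.low (A := A) (twistKer A U L F n) (r n)) n hn
  have hI : ∀ s ∈ S₀, I ≤ (s : PrimeSpectrum A).asIdeal := fun s hs => iSup₂_le fun n hn => by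
    haveI := (hN n hn).1
    rw [W7Strat.low]
    split_ifs with h0
    · exact bot_le
    · by_contra hne
      have := (Fitting.not_le_iff_finrank (p := (s : PrimeSpectrum A).asIdeal) (k := r n - 1)).1 hne
      have h1 : rk s n ≤ r n - 1 := this
      rw [hS s hs n hn] at h1
      omega
  have hge : ∀ s : Spec (CommRingCat.of A), I ≤ (s : PrimeSpectrum A).asIdeal → ∀ n, N ≤ n → r n ≤ rk s n := by
    intro s hs n hn
    haveI := (hN n hn).1
    by_contra hlt
    refine (Fitting.not_le_iff_finrank (p := (s : PrimeSpectrum A).asIdeal) (k := r n - 1)).2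
      (show rk s n ≤ r n - 1 by omega) ?_
    have := (hIle n hn).trans hs
    rwa [W7Strat.low, if_neg (by omega)] at this
  let cq : A →+* A ⧸ I := Ideal.Quotient.mk I
  let c : Spec (CommRingCat.of (A ⧸ I)) ⟶ Spec (CommRingCat.of A) := Spec.map (CommRingCat.ofHom cq)
  have piece : ∀ z : Spec (CommRingCat.of (A ⧸ I)), c z ∈ S₀ → ∃ h : A,
      z ∈ Set.range (Spec.map (CommRingCat.ofHom (algebraMap (A ⧸ I) (StratRing I h)))) ∧
      PFlat f F (Spec.map (CommRingCat.ofHom (algebraMap A (StratRing I h)))) ∧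
      IsOpen {w : Spec (CommRingCat.of (StratRing I h)) |
        Spec.map (CommRingCat.ofHom (algebraMap A (StratRing I h))) w ∈ S₀} := by
    intro z hz
    have hfin := finite_range_hilb (f := f) hL.1 hfp
    haveI := hfin.to_subtype
    haveI := Fintype.ofFinite (Set.range fun s : Spec (CommRingCat.of A) => hilb f L F s)
    let nv : (Set.range fun s : Spec (CommRingCat.of A) => hilb f L F s) → ℕ := fun v =>
      if h : ∃ n, N ≤ n ∧ (r n : ℤ) < v.1 n then h.choose else N
    let E : Finset ℕ := Finset.univ.image nv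
    have hnv : ∀ n ∈ E, N ≤ n := by
      intro n hn
      obtain ⟨v, -, rfl⟩ := Finset.mem_image.1 hn
      simp only [nv]
      split_ifs with hv
      · exact hv.choose_spec.1
      · exact le_rfl
    let p := (c z : PrimeSpectrum A).asIdeal
    have hfitt : ∀ n ∈ E, ∃ a ∈ Fitt.ideal A (twistKer A U L F n) (r n), a ∉ p := fun n hn => by
      haveI := (hN n (hnv n hn)).1
      exact Set.not_subset.1 ((Fitting.not_le_iff_finrank (p := p) (k := r n)).2 (hS _ hz n (hnv n hn)).le)
    choose a ha hap using hfitt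
    let h : A := ∏ n : E, a n.1 n.2
    have hhp : h ∉ p := fun hh => by
      obtain ⟨n, -, hn⟩ := (c z : PrimeSpectrum A).isPrime.prod_mem_iff.1 hh
      exact hap _ n.2 hn
    have hpts : ∀ s : Spec (CommRingCat.of A), I ≤ (s : PrimeSpectrum A).asIdeal → h ∉ (s : PrimeSpectrum A).asIdeal →
        ∀ n, N ≤ n → hilb f L F s n = r n := by
      intro s hs hhs n hn
      rw [hhk n hn]
      refine congrArg Nat.cast (le_antisymm ?_ (hge s hs n hn))
      by_contra hlt
      push Not at hlt
      let v : Set.range fun s : Spec (CommRingCat.of A) => hilb f L F s := ⟨_, s, rfl⟩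
      have hex : ∃ n, N ≤ n ∧ (r n : ℤ) < v.1 n :=
        ⟨n, hn, by change _ < hilb f L F s n; rw [hhk n hn]; exact_mod_cast hlt⟩
      have hm : nv v ∈ E := Finset.mem_image_of_mem nv (Finset.mem_univ v)
      have h1 : r (nv v) < rk s (nv v) := by
        have h2 : (r (nv v) : ℤ) < hilb f L F s (nv v) := by
          simp only [nv, dif_pos hex]
          exact hex.choose_spec.2
        rw [hhk _ (hnv _ hm)] at h2
        exact_mod_cast h2
      haveI := (hN _ (hnv _ hm)).1
      refine hhs ?_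
      have hle : Fitt.ideal A (twistKer A U L F (nv v)) (r (nv v)) ≤ (s : PrimeSpectrum A).asIdeal := by
        by_contra hne
        have h3 : rk s (nv v) ≤ r (nv v) :=
          (Fitting.not_le_iff_finrank (p := (s : PrimeSpectrum A).asIdeal) (k := r (nv v))).1 hne
        omega
      exact (s : PrimeSpectrum A).asIdeal.mem_of_dvd (Finset.dvd_prod_of_mem _ (Finset.mem_univ (⟨_, hm⟩ : E)))
        (hle (ha _ hm))
    have hfl := pflat_piece (A := A) U hU hcov hL hF r (fun n hn => ⟨(hN n hn).1, (hN n hn).2.2⟩) I h hIle hpts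
    refine ⟨h, ?_, hfl, ?_⟩
    · show z ∈ Set.range (PrimeSpectrum.comap (algebraMap (A ⧸ I) (StratRing I h)))
      rw [PrimeSpectrum.localization_away_comap_range _ (Ideal.Quotient.mk I h)]
      exact hhp
    · let g := Spec.map (CommRingCat.ofHom (algebraMap A (StratRing I h)))
      have hlc := isLocallyConstant_hilb (f := pullback.snd f g)
        (PicLoc.isInvertible_pullback (pullback.fst f g) hL.1) (ModDesc.isFP_pullback (pullback.fst f g) hF.1 hfp) hfl
      have heq : {w | g w ∈ S₀} = (fun w => hilb (pullback.snd f g) ((Scheme.Modules.pullback (pullback.fst f g)).obj L)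
          ((Scheme.Modules.pullback (pullback.fst f g)).obj F) w) ⁻¹' {v | ∀ n, (v n : ℚ) = Φ n} := by
        ext w
        refine forall_congr' fun n => ?_
        exact iff_of_eq (congrArg (fun x : ℤ => (x : ℚ) = Φ n) (hilb_baseChange hL.1 hF.1 g w n).symm)
      rw [heq]
      exact hlc _
  let Z : Set (Spec (CommRingCat.of (A ⧸ I))) := c ⁻¹' S₀
  have hfac : ∀ h : A, Spec.map (CommRingCat.ofHom (algebraMap (A ⧸ I) (StratRing I h))) ≫ c =
      Spec.map (CommRingCat.ofHom (algebraMap A (StratRing I h))) := fun h => by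
    rw [← Spec.map_comp]
    exact congrArg Spec.map (CommRingCat.hom_ext (IsScalarTower.algebraMap_eq A (A ⧸ I) (StratRing I h)).symm)
  haveI hop : ∀ h : A, IsOpenImmersion (Spec.map (CommRingCat.ofHom (algebraMap (A ⧸ I) (StratRing I h)))) := fun h =>
    IsOpenImmersion.of_isLocalization (Ideal.Quotient.mk I h)
  have hZ : IsOpen Z := by
    refine isOpen_iff_forall_mem_open.2 fun z hz => ?_
    obtain ⟨h, ⟨w, hw⟩, -, hopen⟩ := piece z hz
    refine ⟨Spec.map (CommRingCat.ofHom (algebraMap (A ⧸ I) (StratRing I h))) ''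
      {w | Spec.map (CommRingCat.ofHom (algebraMap A (StratRing I h))) w ∈ S₀}, ?_,
      (Spec.map (CommRingCat.ofHom (algebraMap (A ⧸ I) (StratRing I h)))).isOpenEmbedding.isOpenMap _ hopen, w, ?_, hw⟩
    · rintro _ ⟨w', hw', rfl⟩
      change c _ ∈ S₀
      rw [← Scheme.Hom.comp_apply, hfac]
      exact hw'
    · change Spec.map (CommRingCat.ofHom (algebraMap A (StratRing I h))) w ∈ S₀
      rw [← hfac, Scheme.Hom.comp_apply, hw]
      exact hz
  let O : (Spec (CommRingCat.of (A ⧸ I))).Opens := ⟨Z, hZ⟩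
  haveI : IsClosedImmersion c := IsClosedImmersion.spec_of_surjective _ Ideal.Quotient.mk_surjective
  let i : O.toScheme ⟶ Spec (CommRingCat.of A) := O.ι ≫ c
  haveI : IsLocallyNoetherian O.toScheme := LocallyOfFiniteType.isLocallyNoetherian O.ι
  haveI : LocallyOfFiniteType i := inferInstance
  have hrange : Set.range i = S₀ := by
    ext s
    constructor
    · rintro ⟨z, rfl⟩
      exact z.2
    · intro hs
      obtain ⟨z, hz⟩ : ∃ z : PrimeSpectrum (A ⧸ I), PrimeSpectrum.comap cq z = (s : PrimeSpectrum A) := by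
        rw [← Set.mem_range, range_comap_of_surjective _ _ Ideal.Quotient.mk_surjective, Ideal.mk_ker]
        exact hI s hs
      have hz' : c z = s := hz
      exact ⟨(⟨z, show c z ∈ S₀ by rw [hz']; exact hs⟩ : O), hz'⟩
  have hflW : PFlat f F i := by
    refine pflat_of_local hF.1 fun z => ?_
    obtain ⟨h, ⟨w, hw⟩, hfl, -⟩ := piece (O.ι z) z.2
    let v := Spec.map (CommRingCat.ofHom (algebraMap (A ⧸ I) (StratRing I h)))
    refine ⟨(v ⁻¹ᵁ O).toScheme, v ∣_ O, inferInstance, ⟨⟨w, ?_⟩, ?_⟩, ?_⟩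
    · change v w ∈ O
      rw [hw]
      exact z.2
    · apply O.ι.isOpenEmbedding.injective
      rw [← Scheme.Hom.comp_apply, morphismRestrict_ι, Scheme.Hom.comp_apply]
      exact hw
    · rw [morphismRestrict_ι_assoc, hfac]
      exact hfl.comp _
  refine ⟨O.toScheme, i, inferInstance, inferInstance, inferInstance, hrange, fun T g => ⟨?_, fun ⟨hfl, hg⟩ => ?_⟩⟩
  · rintro ⟨h, rfl⟩
    exact ⟨hflW.comp h, fun t => hrange.le ⟨h t, rfl⟩⟩
  let φ₀ : CommRingCat.of A ⟶ Γ(T, ⊤) := (Scheme.ΓSpecIso (CommRingCat.of A)).inv ≫ g.appTop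
  have hg₀ : T.toSpecΓ ≫ Spec.map φ₀ = g := by
    rw [Spec.map_comp, ← Scheme.toSpecΓ_naturality_assoc]
    simp [← Spec.map_comp]
  have hkill : ∀ x ∈ I, φ₀.hom x = 0 := by
    intro x hx
    refine section_eq_zero_of_affine _ fun V hV => ?_
    let φ := φ₀ ≫ T.presheaf.map (homOfLE (le_top : V ≤ ⊤)).op
    have hφ : hV.fromSpec ≫ g = Spec.map φ := by
      rw [← hg₀, IsAffineOpen.fromSpec_toSpecΓ_assoc, ← Spec.map_comp]
    have hle : I ≤ RingHom.ker φ.hom := iSup₂_le fun n hn => by
      haveI := (hN n hn).1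
      have h1 := low_map_eq_bot (A := A) U hU hL hF (r := r n) (hN n hn).2.1 φ (hφ ▸ hfl.comp hV.fromSpec) fun q => by
        refine hS _ ?_ n hn
        intro m
        rw [← hφ, Scheme.Hom.comp_apply]
        exact hg _ m
      exact fun y hy => by
        have := Ideal.mem_map_of_mem φ.hom hy
        rwa [h1] at this
    exact hle hx
  let ψ : CommRingCat.of (A ⧸ I) ⟶ Γ(T, ⊤) := CommRingCat.ofHom (Ideal.Quotient.lift I φ₀.hom hkill)
  let w : T ⟶ Spec (CommRingCat.of (A ⧸ I)) := T.toSpecΓ ≫ Spec.map ψ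
  have hw : w ≫ c = g := by
    rw [Category.assoc, ← Spec.map_comp]
    exact hg₀
  refine ⟨IsOpenImmersion.lift O.ι w ?_, ?_⟩
  · rw [Scheme.Opens.range_ι]
    rintro _ ⟨t, rfl⟩
    change c (w t) ∈ S₀
    rw [← Scheme.Hom.comp_apply, hw]
    exact hg t
  · change IsOpenImmersion.lift _ _ _ ≫ O.ι ≫ c = g
    rw [← Category.assoc, IsOpenImmersion.lift_fac]
    exact hw

end Groth.Agent.HilbFib
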