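import Groth.Agent.HilbFib.Closed
import Groth.Agent.W7Cech.NNStatements
import Groth.Agent.RPushQC.Acyclic

/-!
Vanishing of the higher cohomology of the fibres of large twists, and flat modules.
-/

set_option autoImplicit false
set_option backward.isDefEq.respectTransparency false
set_option backward.isDefEq.respectTransparency.types false
set_option linter.style.haveILetI false
set_option maxHeartbeats 800000

universe u

open CategoryTheory CategoryTheory.Limits AlgebraicGeometry TopologicalSpace Opposite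
open scoped TensorProduct

noncomputable section

namespace Groth.Agent.HilbFib

/-- Higher Betti numbers of the fibres of large twists vanish. -/
theorem exists_betti_zero {A : Type u} [CommRing A] [IsNoetherianRing A] {X : Scheme.{u}}
    (f : X ⟶ Spec (CommRingCat.of A)) [IsProper f] {L F : X.Modules} (hL : CohB1.IsAmple L) (hF : Coh.IsCoh F) :
    ∃ N : ℕ, ∀ n, N ≤ n → ∀ (s : Spec (CommRingCat.of A)) (p : ℕ),
      PerfAux.betti f (CohB1.tensorMod F (CohB1.tensorPow L n)) s (p + 1) = 0 := by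
  letI : X.Over (Spec (CommRingCat.of A)) := ⟨f⟩
  haveI : IsProper (X ↘ Spec (CommRingCat.of A)) := ‹IsProper f›
  haveI : CompactSpace X := QuasiCompact.compactSpace_of_compactSpace f
  haveI : X.IsSeparated := by
    constructor
    rw [← terminal.comp_from f]
    infer_instance
  obtain ⟨ι, hι, U, hU, hcov⟩ := W7Cech.exists_cover X
  haveI := hι
  obtain ⟨N, hN⟩ := exists_core A U hU hcov hL hF
  refine ⟨N, fun n hn s p => ?_⟩
  let G := CohB1.tensorMod F (CohB1.tensorPow L n)
  have hG : Coh.IsQCoh G := TMul.isQCoh_tensor (TMul.isInvertible_tensorPow hL.1 n) (hF := hF.1)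
  let k := (Spec (CommRingCat.of A)).residueField s
  letI : Algebra A k := (W7Cech.resMap A s).hom.toAlgebra
  letI : (f.fiber s).Over (Spec (CommRingCat.of ↥k)) := ⟨f.fiberToSpecResidueField s⟩
  have sq : IsPullback (f.fiberι s) (f.fiberToSpecResidueField s) f (Spec.map (W7Cech.resMap A s)) := by
    rw [W7Cech.SpecMap_resMap]
    exact IsPullback.of_hasPullback f _
  haveI := subsingleton_of_exact_lTensor A (twistCx A U L F n) p (ModuleCat.of A k) ((hN n hn k).2 p)
  obtain ⟨i⟩ := W7Cech.nonempty_hh_bc_lin A k U hU hcov (f.fiberι s) sq G hG (p + 1)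
  haveI : Subsingleton (Coh.HH (f.fiber s) ((Scheme.Modules.pullback (f.fiberι s)).obj G) (p + 1)) :=
    i.toLinearEquiv.injective.subsingleton
  exact Module.finrank_zero_of_subsingleton

/-- Over a quasi-compact base the first cohomology of the fibres of large twists vanishes. -/
theorem exists_fiberH_subsingleton {X S : Scheme.{u}} [CompactSpace S] (f : X ⟶ S) [IsProper f]
    [LocallyOfFinitePresentation f] {L F : X.Modules} (hL : RelAmple.IsRelAmple f L) (hF : CohB1.IsFP F) :
    ∃ N : ℕ, ∀ n, N ≤ n → ∀ s : S, Subsingleton (CohIII.fiberH f (CohB1.tensorMod F (CohB1.tensorPow L n)) s 1) := by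
  classical
  have hq : Coh.IsQCoh F := haveI := hF; (inferInstance : F.IsQuasicoherent)
  have hinv := TMul.isInvertible_of_isRelAmple hL
  have loc : ∀ s : S, ∃ (V : S.Opens), s ∈ V ∧ ∃ N : ℕ, ∀ n, N ≤ n → ∀ t ∈ V,
      PerfAux.betti f (CohB1.tensorMod F (CohB1.tensorPow L n)) t 1 = 0 := by
    intro s
    obtain ⟨V, hV, hsV, -⟩ := exists_isAffineOpen_mem_and_subset (X := S) (x := s) (U := ⊤) trivial
    haveI : Coh.IsQCoh F := hq
    haveI : Coh.IsQCoh ((Scheme.Modules.pullback (pullback.fst f hV.fromSpec)).obj F) := QC.isQCoh_pullback _ hq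
    obtain ⟨A₀, hA₀, X₀, f₀, hf₀, q, F₀, L₀, sq, hF₀, hL₀, ⟨eF⟩, ⟨eL⟩⟩ := exists_model_ample (A := Γ(S, V))
      (pullback.snd f hV.fromSpec) ((Scheme.Modules.pullback (pullback.fst f hV.fromSpec)).obj F)
      (ModDesc.isFP_pullback _ hq hF) _ (isAmple_pullback_fst hL hV)
    haveI := hf₀
    obtain ⟨N, hN⟩ := exists_betti_zero f₀ hL₀ hF₀
    refine ⟨V, hsV, N, fun n hn t ht => ?_⟩
    obtain ⟨z, rfl⟩ : ∃ z, hV.fromSpec z = t := ⟨_, hV.fromSpec_primeIdealOf ⟨t, ht⟩⟩
    let g := Spec.map (CommRingCat.ofHom A₀.val.toRingHom)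
    refine Eq.trans ?_ (hN n hn (g z) 0)
    let T₀ := CohB1.tensorMod F₀ (CohB1.tensorPow L₀ n)
    let T := CohB1.tensorMod F (CohB1.tensorPow L n)
    have h1 := betti_of_isPullback (IsPullback.of_hasPullback f hV.fromSpec) T
      (TMul.isQCoh_tensor (TMul.isInvertible_tensorPow hinv n) (hF := hq)) z 1
    have h2 := betti_of_isPullback sq T₀ (TMul.isQCoh_tensor (TMul.isInvertible_tensorPow hL₀.1 n) (hF := hF₀.1)) z 1
    rw [← h1, ← h2]
    obtain ⟨a⟩ := TMul.nonempty_pullPowIso (pullback.fst f hV.fromSpec) L n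
    obtain ⟨b⟩ := TMul.nonempty_pullTensorIso (pullback.fst f hV.fromSpec) F (CohB1.tensorPow L n)
    obtain ⟨a'⟩ := TMul.nonempty_pullPowIso q L₀ n
    obtain ⟨b'⟩ := TMul.nonempty_pullTensorIso q F₀ (CohB1.tensorPow L₀ n)
    obtain ⟨c⟩ := TMul.nonempty_powCongr eL n
    exact betti_congr _ ((PicGrp.tensorModIso (Iso.refl _) a ≪≫ b).symm ≪≫
      (PicGrp.tensorModIso eF c).symm ≪≫ (PicGrp.tensorModIso (Iso.refl _) a' ≪≫ b')) z 1
  choose V hsV N hN using loc
  obtain ⟨t, ht⟩ := isCompact_univ.elim_finite_subcover (fun s => (V s : Set S)) (fun s => (V s).2)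
    fun s _ => Set.mem_iUnion.2 ⟨s, hsV s⟩
  refine ⟨t.sup N, fun n hn s => ?_⟩
  obtain ⟨a, ha, hsa⟩ := Set.mem_iUnion₂.1 (ht (Set.mem_univ s))
  have h0 := hN a n ((Finset.le_sup ha).trans hn) s hsa
  let G := CohB1.tensorMod F (CohB1.tensorPow L n)
  let k := S.residueField s
  letI : (f.fiber s).Over (Spec (CommRingCat.of ↥k)) := ⟨f.fiberToSpecResidueField s⟩
  haveI : IsProper ((f.fiber s) ↘ Spec (CommRingCat.of ↥k)) := inferInstanceAs (IsProper (pullback.snd f _))
  have hG : Coh.IsCoh ((Scheme.Modules.pullback (f.fiberι s)).obj G) :=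
    ⟨QC.isQCoh_pullback _ (TMul.isQCoh_tensor (TMul.isInvertible_tensorPow hinv n) (hF := hq)),
      ModDesc.isFT_of_isFP (ModDesc.isFP_pullback _ (TMul.isQCoh_tensor (TMul.isInvertible_tensorPow hinv n) (hF := hq))
        (W7Cech.isFP_tensor_invertible hF (TMul.isInvertible_tensorPow hinv n)))⟩
  haveI : Module.Finite k (Coh.HH (f.fiber s) ((Scheme.Modules.pullback (f.fiberι s)).obj G) 1) :=
    CohFinite.finite_proper k (f.fiber s) _ hG 1
  exact (Module.finrank_zero_iff (R := k)).1 h0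

/-- Flat modules over a quasi-compact base have locally free large direct images. -/
theorem exists_finLocFree_of_flat {X S : Scheme.{u}} [CompactSpace S] (f : X ⟶ S) [IsProper f]
    [LocallyOfFinitePresentation f] {L F : X.Modules} (hL : RelAmple.IsRelAmple f L) (hF : CohB1.IsFP F)
    (hfl : FlatMod.IsFlatOver f F) :
    ∃ N : ℕ, ∀ n, N ≤ n → FlatMod.IsFinLocFree ((Coh.push f).obj (CohB1.tensorMod F (CohB1.tensorPow L n))) := by
  have hq : Coh.IsQCoh F := haveI := hF; (inferInstance : F.IsQuasicoherent)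
  have hinv := TMul.isInvertible_of_isRelAmple hL
  haveI : HasInjectiveResolutions X.Modules := RPushQC.hasInjectiveResolutions X
  obtain ⟨N, hN⟩ := exists_fiberH_subsingleton f hL hF
  refine ⟨N, fun n hn => DQCoh.isFinLocFree_of_local fun s => ?_⟩
  have h := W7Cech.isFinLocFree_push_restrict f (TMul.isQCoh_tensor (TMul.isInvertible_tensorPow hinv n) (hF := hq))
    (W7Cech.isFP_tensor_invertible hF (TMul.isInvertible_tensorPow hinv n))
    (W7Cech.isFlatOver_tensor_invertible f hq hfl (TMul.isInvertible_tensorPow hinv n)) ⊤ fun y _ => hN n hn y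
  exact ⟨_, (⊤ : S.Opens).ι, inferInstance, ⟨s, trivial⟩, rfl, h⟩

end Groth.Agent.HilbFib
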